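import Groth.Agent.L21.RR.Mul
import Groth.Agent.L21.RR.Finite
import Groth.Agent.L18.RelAmpleCrit
import Groth.Agent.L19.Ass.Basic
import Groth.Agent.L03.Euler.Twist

/-!
Multiplication by sections, downwards along the negative powers of an invertible module.
-/

set_option autoImplicit false
set_option linter.style.haveILetI false
universe u

open CategoryTheory CategoryTheory.Limits AlgebraicGeometry TopologicalSpace Opposite

noncomputable section

namespace Groth.L22.EnrSev

open Groth.L00.Tensor (tensorMap tensorIso tensorAssoc tensorUnitRight)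
open Groth.L18.Frame (rs rs_rs IsFrame)
open Groth.L18.GenLoc (tens tens_smul_right secOf)
open Groth.L18.Ample (tw tensorMap_tens)
open Groth.L21.RR (mulS mulS_app mulS_comm st st_germ exists_coeff_secOf)

variable {X : Scheme.{u}} {Q R : X.Modules} (e : CohB1.tensorMod R Q ≅ Coh.structureModule X)

/-- Multiplication by a section is natural in the module. -/
theorem mulS_natural {A B : X.Modules} (g : A ⟶ B) (φ : Coh.structureModule X ⟶ Q) :
    g ≫ mulS B φ = mulS A φ ≫ tensorMap g (𝟙 Q) := by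
  refine Scheme.Modules.hom_ext _ _ fun V => ConcreteCategory.hom_ext _ _ fun t => ?_
  show tens B Q V (g.app V t) (rs Q le_top (secOf φ)) =
    (tensorMap g (𝟙 Q)).app V (tens A Q V t (rs Q le_top (secOf φ)))
  rw [tensorMap_tens]
  rfl

/-- Cancel `R ⊗ Q`. -/
def cI (G : X.Modules) : CohB1.tensorMod (CohB1.tensorMod G R) Q ≅ G :=
  tensorAssoc G R Q ≪≫ tensorIso (Iso.refl G) e ≪≫ tensorUnitRight G

/-- Multiplication by `φ`, lowering the power of `R`. -/
def down (G : X.Modules) (φ : Coh.structureModule X ⟶ Q) : CohB1.tensorMod G R ⟶ G :=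
  mulS (CohB1.tensorMod G R) φ ≫ (cI e G).hom

theorem down_comm (hQ : PicF.IsInvertible Q) (G : X.Modules) (φ ψ : Coh.structureModule X ⟶ Q) :
    down e (CohB1.tensorMod G R) φ ≫ down e G ψ = down e (CohB1.tensorMod G R) ψ ≫ down e G φ := by
  simp only [down, Category.assoc]
  rw [reassoc_of% mulS_natural (cI e (CohB1.tensorMod G R)).hom ψ,
    reassoc_of% mulS_natural (cI e (CohB1.tensorMod G R)).hom φ, reassoc_of% mulS_comm _ hQ φ ψ]

/-- At a zero of the section the image lies in the maximal ideal times the stalk. -/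
theorem st_down_mem (hQ : PicF.IsInvertible Q) (G : X.Modules) {φ : Coh.structureModule X ⟶ Q} {x : X}
    (hx : x ∉ CohB1.genLocus Q φ) (u : (CohB1.tensorMod G R).presheaf.stalk x) :
    st (down e G φ) x u ∈ IsLocalRing.maximalIdeal (X.presheaf.stalk x) •
      (⊤ : Submodule (X.presheaf.stalk x) (G.presheaf.stalk x)) := by
  obtain ⟨U, hxU, t, rfl⟩ := TopCat.Presheaf.exists_germ_eq (CohB1.tensorMod G R).presheaf u
  obtain ⟨W, ε, hxW, hε⟩ := Groth.L18.Frame.exists_frame hQ x
  let V : X.Opens := U ⊓ W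
  have hxV : x ∈ V := ⟨hxU, hxW⟩
  have hεV : IsFrame Q V (rs Q inf_le_right ε) := hε.mono inf_le_right
  obtain ⟨b, hb, -⟩ := exists_coeff_secOf hεV φ
  have hbm : X.presheaf.germ V x hxV b ∈ IsLocalRing.maximalIdeal (X.presheaf.stalk x) := by
    rw [IsLocalRing.mem_maximalIdeal, mem_nonunits_iff]
    intro h
    exact hx ((Groth.L18.GenLoc.genLocus_inf_eq φ hεV hb).ge ((X.mem_basicOpen b x hxV).2 h)).1
  let t' : Γ(CohB1.tensorMod G R, V) := rs (CohB1.tensorMod G R) inf_le_left t
  have h1 : st (mulS (CohB1.tensorMod G R) φ) x ((CohB1.tensorMod G R).presheaf.germ U x hxU t) =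
      X.presheaf.germ V x hxV b •
        (CohB1.tensorMod (CohB1.tensorMod G R) Q).presheaf.germ V x hxV (tens _ Q V t' (rs Q inf_le_right ε)) := by
    rw [← Groth.L20.ModStalk.germ_rs (CohB1.tensorMod G R) (inf_le_left : V ≤ U) hxV t, st_germ, mulS_app, ← hb,
      tens_smul_right, Groth.L20.ModStalk.germ_smul]
  show st (mulS (CohB1.tensorMod G R) φ ≫ (cI e G).hom) x _ ∈ _
  rw [Groth.L21.RR.st_comp, h1, map_smul]
  exact Submodule.smul_mem_smul hbm trivial

/-- In the nonvanishing locus multiplication is bijective. -/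
theorem bijective_down (G : X.Modules) {φ : Coh.structureModule X ⟶ Q} {x : X}
    (hQ : PicF.IsInvertible Q) (hx : x ∈ CohB1.genLocus Q φ) :
    Function.Bijective (st (down e G φ) x) := by
  have hc : Function.Bijective (st (cI e G).hom x) :=
    ((Groth.L00.Stk.F X x).mapIso (cI e G)).toLinearEquiv.bijective
  have hm : Function.Bijective (st (mulS (CohB1.tensorMod G R) φ) x) := by
    obtain ⟨W, ε, hxW, hε⟩ := Groth.L18.Frame.exists_frame hQ x
    obtain ⟨b, hb, hb'⟩ := exists_coeff_secOf hε φ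
    have hu : IsUnit (X.presheaf.germ W x hxW b) := by
      rw [← X.mem_basicOpen b x hxW, ← Groth.L18.GenLoc.genLocus_inf_eq φ hε hb]
      exact ⟨hx, hxW⟩
    let g : X.presheaf.stalk x ≃ₗ[X.presheaf.stalk x] Q.presheaf.stalk x :=
      LinearEquiv.ofBijective (LinearMap.toSpanSingleton _ _ (Q.presheaf.germ W x hxW ε))
        (Groth.L21.RR.bijective_germ_frame hε hxW)
    let N := CohB1.tensorMod G R
    let θ : N.presheaf.stalk x ≃ₗ[X.presheaf.stalk x] (CohB1.tensorMod N Q).presheaf.stalk x :=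
      (TensorProduct.rid _ _).symm ≪≫ₗ TensorProduct.congr (LinearEquiv.refl _ _) g ≪≫ₗ
        (Groth.L00.Stk.τ x N Q).toLinearEquiv
    have key : ∀ v, st (mulS N φ) x v = X.presheaf.germ W x hxW b • θ v := fun v => by
      obtain ⟨U, hxU, t, rfl⟩ := TopCat.Presheaf.exists_germ_eq N.presheaf v
      have hxV : x ∈ U ⊓ W := ⟨hxU, hxW⟩
      rw [← Groth.L20.ModStalk.germ_rs N (inf_le_left : U ⊓ W ≤ U) hxV t, st_germ, mulS_app,
        show rs Q (le_top : U ⊓ W ≤ ⊤) (secOf φ) = rs Q (inf_le_right : U ⊓ W ≤ W) (b • ε) by rw [hb, rs_rs],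
        Groth.L18.Frame.rs_smul, tens_smul_right, Groth.L20.ModStalk.germ_smul]
      congr 1
      · exact TopCat.Presheaf.germ_res_apply X.presheaf (homOfLE inf_le_right) x hxV b
      · show _ = (Groth.L00.Stk.τ x N Q).hom (_ ⊗ₜ ((1 : X.presheaf.stalk x) • Q.presheaf.germ W x hxW ε))
        rw [one_smul, ← Groth.L20.ModStalk.germ_rs Q (inf_le_right : U ⊓ W ≤ W) hxV ε]
        exact (Groth.L00.Stk.τfun_tmul x N Q hxV _ _).symm
    have heq : ⇑(st (mulS N φ) x) = fun v => (hu.unit : (X.presheaf.stalk x)ˣ) • θ v := funext fun v => key v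
    rw [heq]
    exact (MulAction.bijective hu.unit).comp θ.bijective
  show Function.Bijective (st (mulS (CohB1.tensorMod G R) φ ≫ (cI e G).hom) x)
  have h : ⇑(st (mulS (CohB1.tensorMod G R) φ ≫ (cI e G).hom) x) =
      st (cI e G).hom x ∘ st (mulS (CohB1.tensorMod G R) φ) x :=
    funext fun v => Groth.L21.RR.st_comp _ _ _ _
  rw [h]
  exact hc.comp hm

/-- One step down. -/
def dn (G : X.Modules) (φ : Coh.structureModule X ⟶ Q) (j : ℕ) : tw G R (j + 1) ⟶ tw G R j :=
  down e (tw G R j) φ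

/-- Several steps down. -/
def dnN (G : X.Modules) (φ : Coh.structureModule X ⟶ Q) (j : ℕ) : ∀ d, tw G R (j + d) ⟶ tw G R j
  | 0 => 𝟙 _
  | d + 1 => dn e G φ (j + d) ≫ dnN G φ j d

theorem dn_comm (hQ : PicF.IsInvertible Q) (G : X.Modules) (φ ψ : Coh.structureModule X ⟶ Q) (j : ℕ) :
    dn e G φ (j + 1) ≫ dn e G ψ j = dn e G ψ (j + 1) ≫ dn e G φ j :=
  down_comm e hQ (tw G R j) φ ψ

theorem st_dnN_mem (hQ : PicF.IsInvertible Q) (G : X.Modules) {φ : Coh.structureModule X ⟶ Q} {x : X}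
    (hx : x ∉ CohB1.genLocus Q φ) (j : ℕ) : ∀ (d : ℕ) (u : (tw G R (j + d)).presheaf.stalk x),
    st (dnN e G φ j d) x u ∈ IsLocalRing.maximalIdeal (X.presheaf.stalk x) ^ d •
      (⊤ : Submodule (X.presheaf.stalk x) ((tw G R j).presheaf.stalk x))
  | 0, u => by rw [pow_zero, Ideal.one_eq_top, Submodule.top_smul]; trivial
  | d + 1, u => by
    show st (dn e G φ (j + d) ≫ dnN e G φ j d) x u ∈ _
    rw [Groth.L21.RR.st_comp]
    have h := Submodule.mem_map_of_mem (f := st (dnN e G φ j d) x) (st_down_mem e hQ (tw G R (j + d)) hx u)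
    rw [Submodule.map_smul''] at h
    rw [pow_succ', Submodule.mul_smul]
    refine Submodule.smul_mono le_rfl ?_ h
    rintro _ ⟨v, -, rfl⟩
    exact st_dnN_mem hQ G hx j d v

/-- Injectivity at the associated points gives a monomorphism. -/
theorem mono_of_injective_ass [IsLocallyNoetherian X] {A B : X.Modules} [Coh.IsQCoh A] (f : A ⟶ B)
    (h : ∀ x, Curv2.IsAssPoint A x → Function.Injective (st f x)) : Mono f := by
  rw [Groth.L21.Mod.mono_iff_stalk_injective]
  intro x
  show Function.Injective (st f x)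
  refine (injective_iff_map_eq_zero _).2 fun v hv => ?_
  obtain ⟨U, hxU, t, rfl⟩ := TopCat.Presheaf.exists_germ_eq A.presheaf v
  rw [st_germ, ← map_zero (B.presheaf.germ U x hxU).hom] at hv
  obtain ⟨U', hxU', i₁, i₂, hU'⟩ := TopCat.Presheaf.germ_eq B.presheaf x hxU hxU _ _ hv
  obtain ⟨_, ⟨V, hV, rfl⟩, hxV, hVU⟩ :=
    X.isBasis_affineOpens.exists_subset_of_mem_open (show x ∈ U' from hxU') U'.2
  have hVU1 : V ≤ U := fun y hy => i₁.le (hVU hy)
  by_contra hne
  have ht : rs A hVU1 t ≠ 0 := fun h0 => hne (by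
    rw [← Groth.L20.ModStalk.germ_rs A hVU1 hxV t, h0, map_zero])
  obtain ⟨y, hyV, hy, hy0⟩ := Groth.L19.Ass.exists_ass_germ_ne_zero A hV ht
  refine hy0 (h y hy ?_)
  have hyU' : y ∈ U' := hVU hyV
  rw [map_zero, Groth.L20.ModStalk.germ_rs A hVU1 hyV t, st_germ,
    ← Groth.L20.ModStalk.germ_rs B i₁.le hyU' (f.app U t)]
  refine (congrArg (B.presheaf.germ U' y hyU') (hU'.trans ?_)).trans (map_zero _)
  exact map_zero _

end Groth.L22.EnrSev
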