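import Groth.Agent.L22.EnrSev.Mult
import Groth.Agent.L22.Inter.Point
import Groth.Agent.L18.AmpleAvoid
import Groth.Agent.L19.SupportPullback
import Mathlib.RingTheory.Ideal.AssociatedPrime.Finiteness

/-!
Vanishing of sections of high negative twists.
-/

set_option autoImplicit false
set_option linter.style.haveILetI false
universe u

open CategoryTheory CategoryTheory.Limits AlgebraicGeometry TopologicalSpace Opposite

noncomputable section

namespace Groth.L22.EnrSev

open Groth.L18.Ample (tw)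
open Groth.L21.RR (st st_germ hk e0 e0_hmap finite_HH')

variable {X : Scheme.{u}}

theorem finite_setOf_isAssPoint [IsNoetherian X] {F : X.Modules} [Coh.IsQCoh F] (hF : CohB1.IsFT F) :
    {x : X | Curv2.IsAssPoint F x}.Finite := by
  classical
  obtain ⟨T, hT⟩ := isCompact_univ.elim_finite_subcover (fun V : X.affineOpens => (V.1 : Set X)) (fun V => V.1.2)
    (fun x _ => by
      obtain ⟨_, ⟨V, hV, rfl⟩, hxV, -⟩ :=
        X.isBasis_affineOpens.exists_subset_of_mem_open (Set.mem_univ x) isOpen_univ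
      exact Set.mem_iUnion.2 ⟨⟨V, hV⟩, hxV⟩)
  refine (T.finite_toSet.biUnion (t := fun V : X.affineOpens => {x | Curv2.IsAssPoint F x} ∩ (V.1 : Set X))
    fun V _ => ?_).subset fun x hx => ?_
  · haveI : IsNoetherianRing Γ(X, V.1) := IsLocallyNoetherian.component_noetherian V
    haveI : Module.Finite Γ(X, V.1) Γ(F, V.1) := Groth.L20.ModStalk.finite_sections F ⟨inferInstance, hF⟩ V.2
    refine Set.Finite.of_finite_image (f := fun x =>
      if h : x ∈ V.1 then (V.2.primeIdealOf ⟨x, h⟩).asIdeal else ⊥) ((associatedPrimes.finite Γ(X, V.1) Γ(F, V.1)).subset ?_) ?_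
    · rintro _ ⟨x, ⟨hx, hxV⟩, rfl⟩
      simp only [SetLike.mem_coe] at hxV
      simp only [hxV, dite_true]
      exact (Groth.L19.Ass.mem_iff_of_affine F V.2 hxV).1 hx
    · rintro a ⟨-, ha⟩ b ⟨-, hb⟩ h
      simp only [SetLike.mem_coe] at ha hb
      simp only [ha, hb, dite_true] at h
      refine (V.2.fromSpec_primeIdealOf ⟨a, ha⟩).symm.trans (Eq.trans ?_ (V.2.fromSpec_primeIdealOf ⟨b, hb⟩))
      exact congrArg _ (PrimeSpectrum.ext h)
  · obtain ⟨V, hV, hxV⟩ := Set.mem_iUnion₂.1 (hT (Set.mem_univ x))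
    exact Set.mem_iUnion₂.2 ⟨V, hV, hx, hxV⟩

theorem isAssPoint_tensor_iff {L : X.Modules} (hL : PicF.IsInvertible L) (M : X.Modules) (x : X) :
    Curv2.IsAssPoint (CohB1.tensorMod M L) x ↔ Curv2.IsAssPoint M x := by
  obtain ⟨e⟩ := Groth.L03.Euler.nonempty_stalk_tensor hL M x
  exact (LinearEquiv.isAssociatedPrime_iff e).symm

theorem isAssPoint_congr {M N : X.Modules} (e : M ≅ N) (x : X) :
    Curv2.IsAssPoint M x ↔ Curv2.IsAssPoint N x :=
  LinearEquiv.isAssociatedPrime_iff ((Groth.L00.Stk.F X x).mapIso e).toLinearEquiv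

theorem isCoh_tw [IsLocallyNoetherian X] {F R : X.Modules} (hF : Coh.IsCoh F) (hR : PicF.IsInvertible R) :
    ∀ j, Coh.IsCoh (tw F R j)
  | 0 => hF
  | j + 1 => Groth.L03.Euler.isCoh_tensor hR (isCoh_tw hF hR j)

theorem isAssPoint_tw {F R : X.Modules} (hR : PicF.IsInvertible R) (x : X) :
    ∀ j, Curv2.IsAssPoint (tw F R j) x ↔ Curv2.IsAssPoint F x
  | 0 => Iff.rfl
  | j + 1 => (isAssPoint_tensor_iff hR (tw F R j) x).trans (isAssPoint_tw hR x j)

variable (k : Type u) [Field k] [X.Over (Spec (CommRingCat.of k))] [IsProper (X ↘ Spec (CommRingCat.of k))]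

include k in
/-- A point whose closure lies in an affine open is closed. -/
theorem isClosed_of_closure_subset_affine {U : X.Opens} (hU : IsAffineOpen U) {x : X}
    (h : closure ({x} : Set X) ⊆ (U : Set X)) : IsClosed ({x} : Set X) := by
  let W := (Groth.L22.Inter.pt x).subscheme
  let i : W ⟶ X := (Groth.L22.Inter.pt x).subschemeι
  haveI := Groth.L22.Inter.isIntegral_pt x
  haveI : IsAffine (U : Scheme.{u}) := hU
  have hr : Set.range i ⊆ Set.range U.ι := by
    rw [Groth.L22.Inter.range_pt, Scheme.Opens.range_ι]; exact h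
  let l : W ⟶ U := IsOpenImmersion.lift U.ι i hr
  haveI : IsClosedImmersion (l ≫ U.ι) := by rw [IsOpenImmersion.lift_fac]; infer_instance
  haveI : IsClosedImmersion l := IsClosedImmersion.of_comp l U.ι
  haveI : IsAffine W := isAffine_of_isAffineHom l
  let s : W ⟶ Spec (CommRingCat.of k) := i ≫ (X ↘ Spec (CommRingCat.of k))
  haveI : IsProper s := inferInstance
  haveI : IsFinite s := IsFinite.iff_isProper_and_isAffineHom.2 ⟨inferInstance, isAffineHom_of_isAffine _⟩
  have hfin := s.finite_appTop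
  letI : Algebra Γ(Spec (CommRingCat.of k), ⊤) Γ(W, ⊤) := s.appTop.hom.toAlgebra
  haveI : Module.Finite Γ(Spec (CommRingCat.of k), ⊤) Γ(W, ⊤) := hfin
  have hf : IsField Γ(Spec (CommRingCat.of k), ⊤) :=
    MulEquiv.isField (Field.toIsField k) (Scheme.ΓSpecIso (CommRingCat.of k)).commRingCatIsoToRingEquiv.toMulEquiv
  letI := hf.toField
  haveI : IsArtinianRing Γ(W, ⊤) := IsArtinianRing.of_finite Γ(Spec (CommRingCat.of k), ⊤) _
  have hW : IsField Γ(W, ⊤) := IsArtinianRing.isField_of_isDomain _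
  letI := hW.toField
  haveI : Subsingleton (Spec Γ(W, ⊤)) := inferInstanceAs (Subsingleton (PrimeSpectrum Γ(W, ⊤)))
  haveI : Subsingleton W := (Scheme.homeoOfIso W.isoSpec).toEquiv.subsingleton
  have hx : x ∈ Set.range i := by rw [Groth.L22.Inter.range_pt]; exact subset_closure rfl
  have he : ({x} : Set X) = Set.range i := by
    refine Set.eq_of_subset_of_subset (Set.singleton_subset_iff.2 hx) ?_
    rintro _ ⟨w, rfl⟩
    obtain ⟨w', hw'⟩ := hx
    exact Set.mem_singleton_iff.2 (by rw [Subsingleton.elim w w', hw'])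
  rw [he]
  exact i.isClosedEmbedding.isClosed_range

variable {Q R : X.Modules} (e : CohB1.tensorMod R Q ≅ Coh.structureModule X)

include k e in
/-- The core vanishing statement. -/
theorem subsingleton_H0_tw (hQ : PicF.IsInvertible Q) (hR : PicF.IsInvertible R) {F : X.Modules}
    (hF : Coh.IsCoh F) (hass : ∀ x : X, IsClosed ({x} : Set X) → ¬ Curv2.IsAssPoint F x)
    (φ : Coh.structureModule X ⟶ Q) (haff : IsAffineOpen (CohB1.genLocus Q φ))
    (hφ : ∀ x : X, Curv2.IsAssPoint F x → x ∈ CohB1.genLocus Q φ) :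
    ∃ j₀ : ℕ, ∀ j, j₀ ≤ j → Subsingleton (Coh.HH X (tw F R j) 0) := by
  haveI := Groth.L21.RR.isNoetherian_of_proper (X := X) k
  have hc := isCoh_tw hF hR
  haveI : ∀ j, Coh.IsQCoh (tw F R j) := fun j => (hc j).1
  haveI : ∀ j i, Module.Finite k (Coh.HH X (tw F R j) i) := fun j i => finite_HH' k (hc j) i
  haveI : ∀ j, Mono (dn e F φ j) := fun j => mono_of_injective_ass _ fun x hx =>
    (bijective_down e (tw F R j) hQ (hφ x ((isAssPoint_tw hR x (j + 1)).1 hx))).injective
  let a : ℕ → ℕ := fun j => Module.finrank k (Coh.HH X (tw F R j) 0)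
  have hinj : ∀ j, Function.Injective (hk k (dn e F φ j) 0) := fun j => Groth.L21.RR.injective_hmap_zero _
  have hanti : Antitone a := antitone_nat_of_succ_le fun j => LinearMap.finrank_le_finrank_of_injective (hinj j)
  obtain ⟨_, ⟨j₀, rfl⟩, hmin⟩ := WellFounded.has_min (r := ((· < ·) : ℕ → ℕ → Prop)) wellFounded_lt
    (Set.range a) (Set.range_nonempty a)
  refine ⟨j₀, fun j hj => ?_⟩
  have hsurj : ∀ d, Function.Surjective (hk k (dnN e F φ j d) 0) := by
    intro d
    induction d with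
    | zero => exact fun y => ⟨y, Groth.L16.CohLinear.hmap_id 0 y⟩
    | succ d ih =>
      intro y
      obtain ⟨z, rfl⟩ := ih y
      have hs : Function.Surjective (hk k (dn e F φ (j + d)) 0) :=
        (LinearMap.injective_iff_surjective_of_finrank_eq_finrank (le_antisymm (hanti (Nat.le_succ _))
          ((hanti (hj.trans (Nat.le_add_right j d))).trans (not_lt.1 (hmin _ ⟨j + d + 1, rfl⟩))))).1 (hinj _)
      obtain ⟨w, rfl⟩ := hs z
      exact ⟨w, Groth.L16.CohLinear.hmap_comp _ _ 0 w⟩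
  refine subsingleton_of_forall_eq 0 fun y => ?_
  by_contra hy
  let v : Γ(tw F R j, ⊤) := e0 (tw F R j) y
  have hzero : ∀ z : X, z ∉ CohB1.genLocus Q φ → (tw F R j).presheaf.germ ⊤ z trivial v = 0 := by
    intro z hz
    haveI : Module.Finite (X.presheaf.stalk z) ((tw F R j).presheaf.stalk z) :=
      Groth.L19.SupportPullback.finite_stalk _ (hc j) z
    have hbot := Ideal.iInf_pow_smul_eq_bot_of_le_jacobson (M := (tw F R j).presheaf.stalk z)
      (IsLocalRing.maximalIdeal (X.presheaf.stalk z)) (IsLocalRing.maximalIdeal_le_jacobson _)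
    refine (Submodule.mem_bot (X.presheaf.stalk z)).1 (hbot ▸ Submodule.mem_iInf _ |>.2 fun d => ?_)
    obtain ⟨w, hw⟩ := hsurj d y
    have hv : v = (dnN e F φ j d).app ⊤ (e0 _ w) := by
      rw [← e0_hmap]; exact congrArg (e0 (tw F R j)) hw.symm
    rw [hv, ← st_germ]
    exact st_dnN_mem e hQ F hz j d _
  obtain ⟨x, hxv⟩ : ∃ x : X, (tw F R j).presheaf.germ ⊤ x trivial v ≠ 0 := by
    by_contra h
    push_neg at h
    have hv0 : v = 0 := Groth.L21.RR.germ_ext fun x hx => (h x).trans (map_zero _).symm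
    exact hy ((map_eq_zero_iff _ (e0 (tw F R j)).injective).1 hv0)
  obtain ⟨_, ⟨V, hV, rfl⟩, hxV, -⟩ :=
    X.isBasis_affineOpens.exists_subset_of_mem_open (Set.mem_univ x) isOpen_univ
  have ht : Groth.L18.Frame.rs (tw F R j) (le_top : V ≤ ⊤) v ≠ 0 := fun h0 => hxv (by
    rw [← Groth.L20.ModStalk.germ_rs (tw F R j) (le_top : V ≤ ⊤) hxV v, h0, map_zero])
  obtain ⟨ξ, hξV, hξ, hξ0⟩ := Groth.L19.Ass.exists_ass_germ_ne_zero (tw F R j) hV ht
  rw [Groth.L20.ModStalk.germ_rs (tw F R j) (le_top : V ≤ ⊤) hξV v] at hξ0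
  refine hass ξ (isClosed_of_closure_subset_affine k haff fun z hz => ?_) ((isAssPoint_tw hR ξ j).1 hξ)
  by_contra hzG
  have h0 := hzero z hzG
  rw [← map_zero ((tw F R j).presheaf.germ ⊤ z trivial).hom] at h0
  obtain ⟨U', hzU', i₁, i₂, hU'⟩ := TopCat.Presheaf.germ_eq (tw F R j).presheaf z (U := ⊤) (V := ⊤) trivial trivial _ _ h0
  have hξU' : ξ ∈ U' := (specializes_iff_mem_closure.2 hz).mem_open U'.2 hzU'
  refine hξ0 ?_
  rw [← Groth.L20.ModStalk.germ_rs (tw F R j) i₁.le hξU' v]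
  refine (congrArg ((tw F R j).presheaf.germ U' ξ hξU') (hU'.trans ?_)).trans (map_zero _)
  exact map_zero _

end Groth.L22.EnrSev
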