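import Groth.Agent.L22.EnrSev.H0
import Groth.Agent.L17.BC.Fibre

/-!
Powers of an inverse as iterated twists.
-/

set_option autoImplicit false
universe u

open CategoryTheory CategoryTheory.Limits AlgebraicGeometry

noncomputable section

namespace Groth.L22.EnrSev

open Groth.L00.Tensor

variable {X : Scheme.{u}}

/-- `M^N ⊗ L^N ≅ O`. -/
def powInv {L M : X.Modules} (i : CohB1.tensorMod L M ≅ Coh.structureModule X) (N : ℕ) :
    CohB1.tensorMod (CohB1.tensorPow M N) (CohB1.tensorPow L N) ≅ Coh.structureModule X :=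
  (tensorPowTensor M L N).symm ≪≫ tensorPowIso (tensorComm M L ≪≫ i) N ≪≫ tensorPowUnit X N

/-- Iterated twists by `M^N`. -/
def twPowIso (F M : X.Modules) (r N : ℕ) : ∀ j : ℕ,
    Groth.L18.Ample.tw (CohB1.tensorMod F (CohB1.tensorPow M r)) (CohB1.tensorPow M N) j ≅
      CohB1.tensorMod F (CohB1.tensorPow M (r + N * j))
  | 0 => Iso.refl _
  | j + 1 => tensorIso (twPowIso F M r N j) (Iso.refl _) ≪≫ tensorAssoc _ _ _ ≪≫
      tensorIso (Iso.refl F) (tensorPowAdd M (r + N * j) N ≪≫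
        eqToIso (congrArg (CohB1.tensorPow M) (by ring)))

/-- Iterated twists of isomorphic modules. -/
def twCongr {A B : X.Modules} (i : A ≅ B) (R : X.Modules) :
    ∀ j : ℕ, Groth.L18.Ample.tw A R j ≅ Groth.L18.Ample.tw B R j
  | 0 => i
  | j + 1 => tensorIso (twCongr i R j) (Iso.refl R)

theorem subsingleton_of_iso {A B : X.Modules} (i : A ≅ B) (n : ℕ) (h : Subsingleton (Coh.HH X A n)) :
    Subsingleton (Coh.HH X B n) :=
  (Groth.L17.BC.HHequiv i n).symm.toEquiv.subsingleton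

/-- An inverse of an invertible module is invertible. -/
theorem isInvertible_of_inverse {L M : X.Modules} (hL : PicF.IsInvertible L)
    (i : CohB1.tensorMod L M ≅ Coh.structureModule X) : PicF.IsInvertible M := fun x => by
  obtain ⟨U, hxU, ⟨τ⟩⟩ := hL x
  exact ⟨U, hxU, ⟨(tensorUnitLeft _).symm ≪≫ tensorIso τ.symm (Iso.refl _) ≪≫
    tensorRestrict (j := U.ι) (M := L) (N := M) ≪≫ (Scheme.Modules.restrictFunctor U.ι).mapIso i ≪≫
    Scheme.Modules.restrictUnitIso U.ι⟩⟩

/-- Reindexing by residues. -/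
theorem exists_bound (P : ℕ → ℕ → Prop) {N : ℕ} (hN : 0 < N)
    (h : ∀ r, r < N → ∃ j₀, ∀ j, j₀ ≤ j → P r j) : ∃ n₀, ∀ n, n₀ ≤ n → P (n % N) (n / N) := by
  classical
  choose j₀ hj₀ using h
  let b : ℕ → ℕ := fun r => if h : r < N then j₀ r h else 0
  refine ⟨((Finset.range N).sup b + 1) * N, fun n hn => ?_⟩
  have hr : n % N < N := Nat.mod_lt _ hN
  refine hj₀ _ hr _ ?_
  have h1 : b (n % N) ≤ (Finset.range N).sup b := Finset.le_sup (Finset.mem_range.2 hr)
  have h2 : (Finset.range N).sup b + 1 ≤ n / N := (Nat.le_div_iff_mul_le hN).2 hn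
  have h3 : b (n % N) = j₀ _ hr := dif_pos hr
  omega

end Groth.L22.EnrSev
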