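import Groth.Agent.L22.EnrSev.Basic
import Groth.Agent.L20.ResDescent
import Groth.Agent.L29.DCoh.TensorAssoc

/-!
Naturality of the multiplications; linear combinations of compositions.
-/

set_option autoImplicit false
set_option linter.style.haveILetI false
universe u

open CategoryTheory CategoryTheory.Limits AlgebraicGeometry TopologicalSpace Opposite

noncomputable section

namespace Groth.L22.EnrSev

open Groth.L00.Tensor (tensorMap tensorMap_comp tensorIso tensorAssoc tensorUnitRight tensorRightF)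
open Groth.L18.Frame (rs rs_rs IsFrame)
open Groth.L18.GenLoc (tens tens_smul_right secOf secOf_homOfSection)
open Groth.L18.Ample (tw)
open Groth.L21.RR (mulS mulS_app st st_germ st_comp one)

variable {X : Scheme.{u}} {Q R : X.Modules} (e : CohB1.tensorMod R Q ≅ Coh.structureModule X)

instance (N : X.Modules) : (tensorRightF N).Additive :=
  haveI : PreservesBinaryBiproducts (tensorRightF N) :=
    preservesBinaryBiproducts_of_preservesBinaryCoproducts _
  Functor.additive_of_preservesBinaryBiproducts _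

/-- Multiplication by a section on stalks. -/
theorem st_mulS_eq (N : X.Modules) (χ : Coh.structureModule X ⟶ Q) (x : X) (v : N.presheaf.stalk x) :
    st (mulS N χ) x v = (Groth.L00.Stk.τ x N Q).hom (v ⊗ₜ[X.presheaf.stalk x] (Q.presheaf.germ ⊤ x trivial (secOf χ))) := by
  obtain ⟨U, hxU, t, rfl⟩ := TopCat.Presheaf.exists_germ_eq N.presheaf v
  rw [st_germ, mulS_app, ← Groth.L20.ModStalk.germ_rs Q (le_top : U ≤ ⊤) hxU (secOf χ)]
  exact (Groth.L00.Stk.τfun_tmul x N Q hxU _ _).symm

theorem st_down_smul (G : X.Modules) {φ ψ : Coh.structureModule X ⟶ Q} {x : X} {γ : X.presheaf.stalk x}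
    (h : Q.presheaf.germ ⊤ x trivial (secOf ψ) = γ • Q.presheaf.germ ⊤ x trivial (secOf φ))
    (v : (CohB1.tensorMod G R).presheaf.stalk x) : st (down e G ψ) x v = γ • st (down e G φ) x v := by
  show st (mulS (CohB1.tensorMod G R) ψ ≫ (cI e G).hom) x v = γ • st (mulS (CohB1.tensorMod G R) φ ≫ (cI e G).hom) x v
  have hτ : ∀ q : Q.presheaf.stalk x, (Groth.L00.Stk.τ x (CohB1.tensorMod G R) Q).hom (v ⊗ₜ[X.presheaf.stalk x] (γ • q)) =
      γ • (Groth.L00.Stk.τ x (CohB1.tensorMod G R) Q).hom (v ⊗ₜ[X.presheaf.stalk x] q) := fun q =>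
    (congrArg _ ((TensorProduct.mk (X.presheaf.stalk x) _ _ v).map_smul γ q)).trans (map_smul _ γ _)
  rw [st_comp, st_comp, st_mulS_eq, st_mulS_eq, h, hτ]
  exact map_smul _ γ _

theorem cI_natural {G G' : X.Modules} (g : G ⟶ G') :
    tensorMap (tensorMap g (𝟙 R)) (𝟙 Q) ≫ (cI e G').hom = (cI e G).hom ≫ g := by
  simp only [cI, Iso.trans_hom, Category.assoc]
  rw [reassoc_of% Groth.L29.DC.Assoc.assoc_natural g (𝟙 R) (𝟙 Q), Groth.L00.Tensor.tensorMap_id]
  congr 1
  have h1 : tensorMap g (𝟙 (CohB1.tensorMod R Q)) ≫ (tensorIso (Iso.refl G') e).hom =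
      (tensorIso (Iso.refl G) e).hom ≫ tensorMap g (𝟙 (Coh.structureModule X)) := by
    change tensorMap g (𝟙 (CohB1.tensorMod R Q)) ≫ tensorMap (𝟙 G') e.hom =
      tensorMap (𝟙 G) e.hom ≫ tensorMap g (𝟙 (Coh.structureModule X))
    rw [← tensorMap_comp, ← tensorMap_comp, Category.id_comp, Category.comp_id, Category.id_comp, Category.comp_id]
  rw [reassoc_of% h1, Groth.L20.ResDescent.tensorUnitRight_natural]

/-- Multiplication is natural in the module. -/
theorem down_natural {G G' : X.Modules} (g : G ⟶ G') (χ : Coh.structureModule X ⟶ Q) :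
    tensorMap g (𝟙 R) ≫ down e G' χ = down e G χ ≫ g := by
  simp only [down, Category.assoc]
  rw [reassoc_of% mulS_natural (tensorMap g (𝟙 R)) χ, cI_natural]

/-- Twisting a multiplication gives the multiplication one level up. -/
theorem dn_succ (hQ : PicF.IsInvertible Q) (F : X.Modules) (φ : Coh.structureModule X ⟶ Q)
    (hmono : ∀ j, Mono (dn e F φ j)) (χ : Coh.structureModule X ⟶ Q) (j : ℕ) :
    dn e F χ (j + 1) = (tensorRightF R).map (dn e F χ j) := by
  haveI := hmono j
  rw [← cancel_mono (dn e F φ j)]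
  exact ((down_natural e (dn e F χ j) φ).trans (dn_comm e hQ F φ χ j)).symm

theorem eqToHom_dn (F : X.Modules) (χ : Coh.structureModule X ⟶ Q) {a b : ℕ} (h : a = b) {Z : X.Modules}
    (f : tw F R b ⟶ Z) :
    eqToHom (congrArg (fun i => tw F R (i + 1)) h) ≫ dn e F χ b ≫ f =
      dn e F χ a ≫ eqToHom (congrArg (tw F R) h) ≫ f := by
  subst h
  simp

variable (k : Type u) [Field k] [X.Over (Spec (CommRingCat.of k))]

/-- A scalar multiple of a section. -/
def scale (c : k) (χ : Coh.structureModule X ⟶ Q) : Coh.structureModule X ⟶ Q :=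
  Groth.L16.homOfSection Q ((show Γ(X, ⊤) from Coh.toGlobal (X ↘ Spec (CommRingCat.of k)) c) • secOf χ)

theorem germ_scale (c : k) (χ : Coh.structureModule X ⟶ Q) (x : X) :
    Q.presheaf.germ ⊤ x trivial (secOf (scale k c χ)) =
      Curv2.stalkMap k X x c • Q.presheaf.germ ⊤ x trivial (secOf χ) := by
  rw [scale, secOf_homOfSection, Groth.L20.ModStalk.germ_smul]
  rfl

theorem mulS_scale (N : X.Modules) (c : k) (χ : Coh.structureModule X ⟶ Q) :
    mulS N (scale k c χ) = mulS N χ ≫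
      (Groth.L17.CohSections.smulM (show Coh.Γtop X from Coh.toGlobal (X ↘ Spec (CommRingCat.of k)) c)).app
        (CohB1.tensorMod N Q) := by
  refine Scheme.Modules.hom_ext _ _ fun V => ConcreteCategory.hom_ext _ _ fun t => ?_
  show tens N Q V t (rs Q le_top (secOf (scale k c χ))) = _
  rw [scale, secOf_homOfSection, Groth.L18.Frame.rs_smul, tens_smul_right]
  rfl

theorem hk_down_scale (G : X.Modules) (c : k) (χ : Coh.structureModule X ⟶ Q) (n : ℕ) :
    Groth.L21.RR.hk k (down e G (scale k c χ)) n = c • Groth.L21.RR.hk k (down e G χ) n := by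
  refine LinearMap.ext fun y => ?_
  show Groth.L16.CohLinear.hmap (mulS _ (scale k c χ) ≫ (cI e G).hom) n y =
    c • Groth.L16.CohLinear.hmap (mulS _ χ ≫ (cI e G).hom) n y
  rw [mulS_scale, Groth.L16.CohLinear.hmap_comp, Groth.L16.CohLinear.hmap_comp,
    Groth.L16.CohLinear.hmap_comp (mulS _ χ) (cI e G).hom]
  exact (Groth.L21.RR.hk k (cI e G).hom n).map_smul c _

variable (F : X.Modules) (φ ψ : Coh.structureModule X ⟶ Q)

/-- The homogeneous form of the monic polynomial with lower coefficients `c`, in two multiplications. -/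
def Phi : ∀ (_ : ℕ → k) (d j : ℕ), tw F R (j + d) ⟶ tw F R j
  | _, 0, _ => 𝟙 _
  | c, d + 1, j => dn e F ψ (j + d) ≫ Phi (fun i => c (i + 1)) d j +
      dn e F (scale k (c 0) φ) (j + d) ≫ dnN e F φ j d

/-- Its polynomial. -/
def Pol : ∀ (_ : ℕ → k) (_ : ℕ), Polynomial k
  | _, 0 => 1
  | c, d + 1 => Pol (fun i => c (i + 1)) d * Polynomial.X + Polynomial.C (c 0)

theorem eq_src (j d : ℕ) : tw F R (j + d + 1) = tw F R (j + 1 + d) :=
  congrArg (tw F R) (Nat.add_right_comm j d 1)

theorem dnN_succ (hQ : PicF.IsInvertible Q) (hmono : ∀ j, Mono (dn e F φ j)) (j : ℕ) : ∀ d : ℕ,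
    eqToHom (eq_src (R := R) F j d) ≫ dnN e F φ (j + 1) d = (tensorRightF R).map (dnN e F φ j d)
  | 0 => by
    simp only [dnN]
    rw [CategoryTheory.Functor.map_id, Category.comp_id]
    rfl
  | d + 1 => by
    simp only [dnN]
    rw [CategoryTheory.Functor.map_comp, ← dn_succ e hQ F φ hmono, ← dnN_succ hQ hmono j d]
    exact eqToHom_dn e F φ (Nat.add_right_comm j d 1) _

theorem Phi_succ (hQ : PicF.IsInvertible Q) (hmono : ∀ j, Mono (dn e F φ j)) (j : ℕ) :
    ∀ (d : ℕ) (c : ℕ → k), eqToHom (eq_src (R := R) F j d) ≫ Phi e k F φ ψ c (j := j + 1) (d := d) =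
      (tensorRightF R).map (Phi e k F φ ψ c d j)
  | 0, c => by
    simp only [Phi]
    rw [CategoryTheory.Functor.map_id, Category.comp_id]
    rfl
  | d + 1, c => by
    simp only [Phi]
    rw [CategoryTheory.Functor.map_add, CategoryTheory.Functor.map_comp, CategoryTheory.Functor.map_comp,
      ← dn_succ e hQ F φ hmono, ← dn_succ e hQ F φ hmono, ← dnN_succ e F φ hQ hmono j d,
      ← Phi_succ hQ hmono j d]
    refine (Preadditive.comp_add _ _ _ _ _ _).trans (congrArg₂ (· + ·) ?_ ?_)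
    · exact eqToHom_dn e F ψ (Nat.add_right_comm j d 1) _
    · exact eqToHom_dn e F (scale k (c 0) φ) (Nat.add_right_comm j d 1) _

theorem st_dnN_succ (j d : ℕ) {x : X} (v : (tw F R (j + (d + 1))).presheaf.stalk x) :
    st (dnN e F φ j (d + 1)) x v = st (dnN e F φ j d) x (st (dn e F φ (j + d)) x v) :=
  st_comp _ _ _ _

/-- The stalk of the form. -/
theorem st_Phi {x : X} {γ : X.presheaf.stalk x}
    (h : Q.presheaf.germ ⊤ x trivial (secOf ψ) = γ • Q.presheaf.germ ⊤ x trivial (secOf φ)) :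
    ∀ (d : ℕ) (c : ℕ → k) (j : ℕ) (v : (tw F R (j + d)).presheaf.stalk x),
      st (Phi e k F φ ψ c d j) x v = ((Pol k c d).eval₂ (Curv2.stalkMap k X x) γ) • st (dnN e F φ j d) x v
  | 0, c, j, v => by simp only [Phi, dnN, Pol]; rw [Polynomial.eval₂_one, one_smul]
  | d + 1, c, j, v => by
    rw [st_dnN_succ]
    simp only [Phi, Pol, Polynomial.eval₂_add, Polynomial.eval₂_mul, Polynomial.eval₂_X, Polynomial.eval₂_C]
    have hadd : ∀ (a b : tw F R (j + (d + 1)) ⟶ tw F R j), st (a + b) x v = st a x v + st b x v := fun a b => by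
      show ((Groth.L00.Stk.F X x).map (a + b)).hom v = _
      rw [Functor.map_add]; rfl
    rw [hadd, st_comp, st_comp, st_Phi h d]
    have e1 : st (dn e F ψ (j + d)) x v = γ • st (dn e F φ (j + d)) x v := st_down_smul e _ h v
    have e2 : st (dn e F (scale k (c 0) φ) (j + d)) x v = Curv2.stalkMap k X x (c 0) • st (dn e F φ (j + d)) x v :=
      st_down_smul e _ (germ_scale k (c 0) φ x) v
    rw [e1, e2, map_smul, map_smul, smul_smul, add_smul]

/-- The action of the form on cohomology. -/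
theorem hk_Phi (n J : ℕ) (B : ∀ j, Module.End k (Coh.HH X (tw F R j) n))
    (hB : ∀ j, J ≤ j → B j ∘ₗ Groth.L21.RR.hk k (dn e F φ j) n = Groth.L21.RR.hk k (dn e F ψ j) n)
    (hBN : ∀ j d, J ≤ j → B j ∘ₗ Groth.L21.RR.hk k (dnN e F φ j d) n =
      Groth.L21.RR.hk k (dnN e F φ j d) n ∘ₗ B (j + d)) :
    ∀ (d : ℕ) (c : ℕ → k) (j : ℕ), J ≤ j → Groth.L21.RR.hk k (Phi e k F φ ψ c d j) n =
      Polynomial.aeval (B j) (Pol k c d) ∘ₗ Groth.L21.RR.hk k (dnN e F φ j d) n
  | 0, c, j, _ => by
    simp only [Phi, dnN, Pol, map_one]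
    exact (LinearMap.id_comp _).symm
  | d + 1, c, j, hj => by
    refine LinearMap.ext fun y => ?_
    simp only [Phi, Pol, map_add, map_mul, Polynomial.aeval_X, Polynomial.aeval_C]
    show Groth.L16.CohLinear.hmap (_ + _) n y = _
    rw [Groth.L21.RR.hmap_add, Groth.L16.CohLinear.hmap_comp, Groth.L16.CohLinear.hmap_comp]
    show Groth.L21.RR.hk k (Phi e k F φ ψ (fun i => c (i + 1)) d j) n (Groth.L21.RR.hk k (dn e F ψ (j + d)) n y) +
      Groth.L21.RR.hk k (dnN e F φ j d) n (Groth.L21.RR.hk k (down e (tw F R (j + d)) (scale k (c 0) φ)) n y) = _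
    rw [hk_down_scale, hk_Phi n J B hB hBN d _ j hj, ← hB (j + d) (hj.trans (Nat.le_add_right j d))]
    have hc : Groth.L21.RR.hk k (dnN e F φ j (d + 1)) n y =
        Groth.L21.RR.hk k (dnN e F φ j d) n (Groth.L21.RR.hk k (dn e F φ (j + d)) n y) :=
      Groth.L16.CohLinear.hmap_comp _ _ n y
    have hN := LinearMap.congr_fun (hBN j d hj) (Groth.L21.RR.hk k (dn e F φ (j + d)) n y)
    simp only [LinearMap.comp_apply, LinearMap.smul_apply, map_smul] at hN ⊢
    rw [hc, ← hN]
    rfl

end Groth.L22.EnrSev
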