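import Groth.Agent.L22.EnrSev.H1
import Groth.Agent.L22.SchemeDim
import Groth.Agent.L03.Euler.Dim

/-!
Two sections of a power of an ample module in general position with respect to finitely many points.
-/

set_option autoImplicit false
set_option linter.style.haveILetI false
universe u

open CategoryTheory CategoryTheory.Limits AlgebraicGeometry TopologicalSpace Opposite

noncomputable section

namespace Groth.L22.EnrSev

open Groth.L18.Frame (rs rs_rs rs_self IsFrame)
open Groth.L18.GenLoc (tens tens_smul_left secOf secOf_homOfSection)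
open Groth.L18.Ample (tw it up fr it_rs up_rs up_it isFrame_fr tw_unit)

variable {X : Scheme.{u}} (k : Type u) [Field k] [X.Over (Spec (CommRingCat.of k))]
  [IsProper (X ↘ Spec (CommRingCat.of k))]

attribute [local instance] Curv2.resAlgebra

include k in
theorem exists_transcendental_at {G : X.Opens} (hG : IsAffineOpen G) {ξ : X} (hξG : ξ ∈ G)
    (hξ : ¬ IsClosed ({ξ} : Set X)) : ∃ a : Γ(X, G), Transcendental k (X.evaluation G ξ hξG a) := by
  by_contra h
  push_neg at h
  have halg : ∀ a : Γ(X, G), IsAlgebraic k (X.evaluation G ξ hξG a) := fun a => not_not.1 (h a)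
  have hall : Algebra.IsAlgebraic k (X.residueField ξ) := ⟨fun z => by
    obtain ⟨st, rfl⟩ := X.residue_surjective ξ z
    letI := X.presheaf.algebra_section_stalk (U := G) ⟨ξ, hξG⟩
    haveI := hG.isLocalization_stalk ⟨ξ, hξG⟩
    obtain ⟨a, b, hab⟩ := IsLocalization.exists_mk'_eq (hG.primeIdealOf ⟨ξ, hξG⟩).asIdeal.primeCompl st
    have h1 : st * X.presheaf.germ G ξ hξG b.1 = X.presheaf.germ G ξ hξG a := by
      rw [← hab]
      exact IsLocalization.mk'_spec _ a b
    have hb : IsUnit (X.presheaf.germ G ξ hξG b.1) :=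
      IsLocalization.map_units (X.presheaf.stalk ξ) b
    have h2 : X.residue ξ st = X.evaluation G ξ hξG a * (X.evaluation G ξ hξG b.1)⁻¹ := by
      have hb0 : X.evaluation G ξ hξG b.1 ≠ 0 := (hb.map (X.residue ξ).hom).ne_zero
      rw [eq_mul_inv_iff_mul_eq₀ hb0]
      exact ((map_mul (X.residue ξ).hom st _).symm.trans (congrArg _ h1))
    rw [h2]
    exact (halg a).mul (halg b.1).inv⟩
  haveI : LocallyOfFiniteType (X ↘ Spec (CommRingCat.of k)) := inferInstance
  obtain ⟨n, hn, htr⟩ := Groth.L22.SchemeDim.exists_dim_closure_eq_trdeg k X ξ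
  haveI := hall
  rw [trdeg_eq_zero] at htr
  have hn0 : n = 0 := by exact_mod_cast htr.symm
  subst hn0
  refine hξ (isClosed_of_closure_subset fun z hz => ?_)
  by_contra hne
  have hne' : closure ({z} : Set X) ≠ closure {ξ} := fun he => by
    have h1 : z ⤳ ξ := specializes_iff_mem_closure.2 (by rw [he]; exact subset_closure rfl)
    exact hne ((h1.antisymm (specializes_iff_mem_closure.2 hz)).eq)
  have h1 := Groth.L03.Euler.topologicalKrullDim_add_one_le (S := closure ({z} : Set X)) isClosed_closure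
    isIrreducible_singleton.closure (closure_minimal (Set.singleton_subset_iff.2 hz) isClosed_closure) hne'
  obtain ⟨m, hm, -⟩ := Groth.L22.SchemeDim.exists_dim_closure_eq_trdeg k X z
  rw [hm, hn] at h1
  norm_cast at h1

theorem transcendental_add {K : Type u} [Field K] [Algebra k K] {a b : K} (ha : IsAlgebraic k a)
    (hb : Transcendental k b) : Transcendental k (a + b) := fun h => hb (by
  have := h.sub ha
  rwa [add_sub_cancel_left] at this)

include k in
theorem exists_transcendental {G : X.Opens} (hG : IsAffineOpen G) (E : Finset X)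
    (hE : ∀ ξ ∈ E, ξ ∈ G ∧ ¬ IsClosed ({ξ} : Set X)) :
    ∃ a : Γ(X, G), ∀ ξ (hξ : ξ ∈ E), Transcendental k (X.evaluation G ξ (hE ξ hξ).1 a) := by
  classical
  induction E using Finset.induction_on with
  | empty => exact ⟨0, fun ξ hξ => absurd hξ (Finset.notMem_empty ξ)⟩
  | @insert η E hη ih =>
    obtain ⟨a, ha⟩ := ih fun ξ hξ => hE ξ (Finset.mem_insert_of_mem hξ)
    have hηG := (hE η (Finset.mem_insert_self η E)).1
    by_cases hta : Transcendental k (X.evaluation G η hηG a)
    · exact ⟨a, fun ξ hξ => (Finset.mem_insert.1 hξ).elim (fun he => by subst he; exact hta) (fun h => ha ξ h)⟩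
    obtain ⟨b, hb⟩ := exists_transcendental_at k hG hηG (hE η (Finset.mem_insert_self η E)).2
    let bad : X → ℕ → Prop := fun ξ n => ∃ h : ξ ∈ G, IsAlgebraic k (X.evaluation G ξ h (a ^ (n + 1) + b))
    have huniq : ∀ ξ ∈ E, ∀ n m, bad ξ n → bad ξ m → n = m := by
      rintro ξ hξ n m ⟨h, hn⟩ ⟨_, hm⟩
      by_contra hne
      let w := X.evaluation G ξ h a
      have hw : Transcendental k w := ha ξ hξ
      have h1 : IsAlgebraic k (w ^ (n + 1) - w ^ (m + 1)) := by
        have := hn.sub hm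
        rw [map_add, map_add, map_pow, map_pow, add_sub_add_right_eq_sub] at this
        exact this
      have hdeg : (Polynomial.X ^ (n + 1) - Polynomial.X ^ (m + 1) : Polynomial k).natDegree ≠ 0 := by
        rcases Nat.lt_or_gt_of_ne hne with hl | hl
        · rw [Polynomial.natDegree_sub_eq_right_of_natDegree_lt (by simp; omega)]; simp
        · rw [Polynomial.natDegree_sub_eq_left_of_natDegree_lt (by simp; omega)]; simp
      refine hw.aeval _ hdeg (mem_nonZeroDivisors_of_ne_zero (Polynomial.leadingCoeff_ne_zero.2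
        fun h0 => hdeg (by rw [h0]; simp))) ?_
      rwa [map_sub, map_pow, map_pow, Polynomial.aeval_X]
    obtain ⟨n, hn⟩ : ∃ n, ∀ ξ ∈ E, ¬ bad ξ n := by
      by_contra hc
      push_neg at hc
      choose f hf hbad using hc
      have hinj : Function.Injective fun i : Fin (E.card + 1) => (⟨f i, hf i⟩ : E) := fun i j hij =>
        Fin.ext (huniq _ (hf i) i j (hbad i) (by
          rw [show f i = f j from congrArg Subtype.val hij]; exact hbad j))
      have := Fintype.card_le_of_injective _ hinj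
      simp at this
    refine ⟨a ^ (n + 1) + b, fun ξ hξ => ?_⟩
    rcases Finset.mem_insert.1 hξ with rfl | hξE
    · rw [map_add, map_pow]
      exact transcendental_add k ((not_not.1 hta).pow _) hb
    · exact fun h => hn ξ hξE ⟨_, h⟩

theorem it_smul {N L : X.Modules} (σ : Γ(L, ⊤)) {U : X.Opens} (c : Γ(X, U)) (m : Γ(N, U)) :
    ∀ K : ℕ, it σ U (c • m) K = c • it σ U m K
  | 0 => rfl
  | K + 1 => by
    show tens _ L U (it σ U (c • m) K) _ = c • tens _ L U _ _
    rw [it_smul σ c m K, tens_smul_left]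

theorem it_eq_fr {N L : X.Modules} (σ : Γ(L, ⊤)) {U : X.Opens} (m : Γ(N, U)) :
    ∀ K : ℕ, it σ U m K = fr m (rs L (le_top : U ≤ ⊤) σ) K
  | 0 => rfl
  | K + 1 => by
    show tens _ L U (it σ U m K) _ = tens _ L U _ _
    rw [it_eq_fr σ m K]

include k in
/-- Two sections in general position. -/
theorem exists_general_pair {L : X.Modules} (hL : CohB1.IsAmple L) {E : Set X} (hE : E.Finite)
    (hEc : ∀ ξ ∈ E, ¬ IsClosed ({ξ} : Set X)) :
    ∃ (N : ℕ) (Q : X.Modules) (_ : Q ≅ CohB1.tensorPow L (N + 1)) (φ ψ : Coh.structureModule X ⟶ Q),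
      ∀ ξ ∈ E, ξ ∈ CohB1.genLocus Q φ ∧ ∃ γ : X.presheaf.stalk ξ,
        Q.presheaf.germ ⊤ ξ trivial (secOf ψ) = γ • Q.presheaf.germ ⊤ ξ trivial (secOf φ) ∧
        ∀ p : Polynomial k, p ≠ 0 → p.eval₂ (Curv2.resMap k X ξ) (X.residue ξ γ) ≠ 0 := by
  haveI := Groth.L21.RR.isNoetherian_of_proper (X := X) k
  obtain ⟨n, s, hs, -, haff⟩ := Groth.L18.Ample.exists_pow_genLocus_of_isAmple hL E hE ⊤ (fun _ _ => trivial)
  let Q₀ := CohB1.tensorPow L (n + 1)
  let G := CohB1.genLocus Q₀ s
  have hQ₀ := Groth.L18.Ample.isInvertible_tensorPow hL.1 (n + 1)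
  obtain ⟨a, ha⟩ := exists_transcendental k haff hE.toFinset fun ξ hξ =>
    ⟨hs (hE.mem_toFinset.1 hξ), hEc ξ (hE.mem_toFinset.1 hξ)⟩
  let O := Coh.structureModule X
  let one : Γ(O, G) := (1 : Γ(X, G))
  obtain ⟨K, t, ht⟩ := Groth.L18.Ample.exists_extend hQ₀ (Groth.L18.Ample.isInvertible_structureModule X) s
    (show Γ(O, G) from a)
  let σ := secOf s
  let t1 : Γ(tw O Q₀ (K + 1), ⊤) := up O σ ⊤ 1 t
  let φ : Coh.structureModule X ⟶ tw O Q₀ (K + 1) :=
    Groth.L16.homOfSection _ (it σ ⊤ (show Γ(O, ⊤) from (1 : Γ(X, ⊤))) (K + 1))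
  let ψ : Coh.structureModule X ⟶ tw O Q₀ (K + 1) := Groth.L16.homOfSection _ t1
  have hone : rs O (le_top : G ≤ ⊤) (show Γ(O, ⊤) from (1 : Γ(X, ⊤))) = one := map_one (X.presheaf.map _).hom
  have hφ : rs (tw O Q₀ (K + 1)) (le_top : G ≤ ⊤) (secOf φ) = it σ G one (K + 1) := by
    rw [secOf_homOfSection, it_rs, hone]
  have hψ : rs (tw O Q₀ (K + 1)) (le_top : G ≤ ⊤) (secOf ψ) = a • it σ G one (K + 1) := by
    rw [secOf_homOfSection, up_rs, ht, up_it, ← it_smul]
    congr 1
    exact (mul_one a).symm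
  have hframe1 : IsFrame O G one := fun V h => by
    have : (fun r : Γ(X, V) => r • rs O h one) = id := by
      funext r
      show r * X.presheaf.map (homOfLE h).op (1 : Γ(X, G)) = r
      rw [map_one, mul_one]
    rw [this]
    exact Function.bijective_id
  have hfr : IsFrame (tw O Q₀ (K + 1)) G (rs (tw O Q₀ (K + 1)) (le_top : G ≤ ⊤) (secOf φ)) := by
    rw [hφ, it_eq_fr]
    exact isFrame_fr hframe1 (Groth.L18.GenLoc.isFrame_genLocus s) (K + 1)
  refine ⟨(n + 1) * (K + 1) - 1, tw O Q₀ (K + 1), eqToIso (tw_unit Q₀ (K + 1)) ≪≫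
    Groth.L00.Tensor.tensorPowMul L (n + 1) (K + 1) ≪≫ eqToIso (congrArg (CohB1.tensorPow L)
      (Nat.sub_add_cancel (Nat.mul_pos n.succ_pos K.succ_pos)).symm), φ, ψ, fun ξ hξ => ?_⟩
  have hξG : ξ ∈ G := hs hξ
  refine ⟨?_, X.presheaf.germ G ξ hξG a, ?_, fun p hp => ?_⟩
  · exact Groth.L18.GenLoc.le_genLocus φ hfr hξG
  · rw [← Groth.L20.ModStalk.germ_rs _ (le_top : G ≤ ⊤) hξG (secOf ψ),
      ← Groth.L20.ModStalk.germ_rs _ (le_top : G ≤ ⊤) hξG (secOf φ), hψ, hφ, Groth.L20.ModStalk.germ_smul]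
  · exact transcendental_iff.1 (ha ξ (hE.mem_toFinset.2 hξ)) p |> fun h h0 => hp (h h0)

end Groth.L22.EnrSev
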