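import Groth.Agent.S7679
import Groth.Agent.S7680
import Groth.Agent.L08.Cube.Inverse
import Groth.Agent.L22.ZeroScheme

/-!
Connectedness of zero loci of sections of ample modules.
-/

set_option autoImplicit false
set_option linter.style.haveILetI false
universe u

open CategoryTheory CategoryTheory.Limits AlgebraicGeometry TopologicalSpace Opposite

noncomputable section

namespace Groth.L22.EnrSev

open Groth.L18.Frame (rs rs_rs IsFrame)
open Groth.L21.RR (st st_germ hk e0 e0_hmap one bijective_smul_one finite_HH')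

variable {X : Scheme.{u}} (k : Type u) [Field k] [X.Over (Spec (CommRingCat.of k))]
  [IsProper (X ↘ Spec (CommRingCat.of k))]

theorem e0_smul (r : Coh.Γtop X) (y : Coh.HH X (Coh.structureModule X) 0) :
    (show Γ(X, ⊤) from e0 (Coh.structureModule X) (r • y)) =
      (show Γ(X, ⊤) from r) * (show Γ(X, ⊤) from e0 (Coh.structureModule X) y) := by
  have h : r • y = Groth.L16.CohLinear.hmap ((Groth.L17.CohSections.smulM r).app (Coh.structureModule X)) 0 y := rfl
  rw [h, e0_hmap]
  show Coh.resTop X (op ⊤) r * _ = _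
  congr 1
  exact Groth.L18.Frame.ro_self le_rfl (show Γ(X, ⊤) from r)

include k in
/-- Global functions of a proper scheme: a power of `f` is a multiple of the next one. -/
theorem exists_pow_eq_mul (f : Γ(X, ⊤)) : ∃ (n : ℕ) (g : Γ(X, ⊤)), f ^ n = f ^ (n + 1) * g := by
  haveI := Groth.L21.RR.isNoetherian_of_proper (X := X) k
  let O := Coh.structureModule X
  haveI : Module.Finite k (Coh.HH X O 0) := finite_HH' k Groth.L16.CohClosedPush.isCoh_structure 0
  let μ : Coh.HH X O 0 →ₗ[k] Coh.HH X O 0 :=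
    hk k ((Groth.L17.CohSections.smulM (show Coh.Γtop X from f)).app O) 0
  obtain ⟨n, hn⟩ := IsArtinian.monotone_stabilizes (R := k) (M := Coh.HH X O 0) ⟨fun m => (μ ^ m).range,
    monotone_nat_of_le_succ fun m => by
      rintro y ⟨z, rfl⟩
      exact ⟨μ z, by rw [pow_succ]; rfl⟩⟩
  have hμ : ∀ (m : ℕ) (y : Coh.HH X O 0),
      (show Γ(X, ⊤) from e0 O ((μ ^ m) y)) = f ^ m * (show Γ(X, ⊤) from e0 O y) := by
    intro m y
    induction m with
    | zero => rw [pow_zero, pow_zero, one_mul]; rfl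
    | succ m ih =>
      rw [pow_succ' μ, pow_succ', mul_assoc, ← ih]
      exact e0_smul f _
  have hmem : (μ ^ n) ((e0 O).symm (show Γ(X, ⊤) from 1)) ∈ (μ ^ (n + 1)).range := by
    have h : (μ ^ n).range = (μ ^ (n + 1)).range := hn (n + 1) n.le_succ
    rw [← h]
    exact ⟨_, rfl⟩
  obtain ⟨z, hz⟩ := hmem
  refine ⟨n, e0 O z, ?_⟩
  have h1 := hμ (n + 1) z
  rw [hz, hμ n, AddEquiv.apply_symm_apply, mul_one] at h1
  exact h1

include k in
/-- On a connected proper scheme a global function is a unit everywhere or nowhere. -/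
theorem isUnit_germ_iff [ConnectedSpace X] (f : Γ(X, ⊤)) (x y : X)
    (hx : IsUnit (X.presheaf.germ ⊤ x trivial f)) : IsUnit (X.presheaf.germ ⊤ y trivial f) := by
  obtain ⟨n, g, hfg⟩ := exists_pow_eq_mul k f
  let U : Set X := (X.basicOpen f : Set X)
  have hclosed : IsClosed U := by
    rw [← isOpen_compl_iff, isOpen_iff_forall_mem_open]
    intro z hz
    have hnu : ¬ IsUnit (X.presheaf.germ ⊤ z trivial f) := fun h => hz ((X.mem_basicOpen f z trivial).2 h)
    have hu : IsUnit (1 - X.presheaf.germ ⊤ z trivial f * X.presheaf.germ ⊤ z trivial g) :=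
      (IsLocalRing.isUnit_or_isUnit_one_sub_self _).resolve_left fun h => hnu (isUnit_of_mul_isUnit_left h)
    have h0 : X.presheaf.germ ⊤ z trivial (f ^ n) = X.presheaf.germ ⊤ z trivial 0 := by
      rw [map_zero]
      refine hu.mul_left_eq_zero.1 ?_
      rw [mul_sub, mul_one, ← map_mul, ← map_mul, ← mul_assoc, ← pow_succ, ← hfg, sub_self]
    obtain ⟨W, hzW, i, i', hW⟩ := TopCat.Presheaf.germ_eq X.presheaf z (U := ⊤) (V := ⊤) trivial trivial _ _ h0
    refine ⟨W, fun w hw hwU => ?_, W.2, hzW⟩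
    have h1 : X.presheaf.germ ⊤ w trivial (f ^ n) = 0 := by
      rw [← TopCat.Presheaf.germ_res_apply X.presheaf i w hw, hW, TopCat.Presheaf.germ_res_apply, map_zero]
    have h2 : IsUnit (X.presheaf.germ ⊤ w trivial (f ^ n)) := by
      rw [map_pow]; exact ((X.mem_basicOpen f w trivial).1 hwU).pow n
    exact not_isUnit_zero (h1 ▸ h2)
  have huniv : U = Set.univ :=
    IsClopen.eq_univ ⟨hclosed, (X.basicOpen f).2⟩ ⟨x, (X.mem_basicOpen f x trivial).2 hx⟩
  exact (X.mem_basicOpen f y trivial).1 (show y ∈ U by rw [huniv]; trivial)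

include k in
/-- The nonvanishing locus of a section of an ample module has connected complement. -/
theorem isConnected_compl_genLocus [ConnectedSpace X] {L : X.Modules} (hL : CohB1.IsAmple L)
    (s : Coh.structureModule X ⟶ L) (hs : Mono s)
    (hdepth : ∀ x : X, IsClosed ({x} : Set X) → 2 ≤ LocCoh.depth (X.presheaf.stalk x) (X.presheaf.stalk x)) :
    IsConnected ((CohB1.genLocus L s : Set X)ᶜ) := by
  haveI := Groth.L21.RR.isNoetherian_of_proper (X := X) k
  let O := Coh.structureModule X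
  have hO : Coh.IsCoh O := Groth.L16.CohClosedPush.isCoh_structure
  haveI : Coh.IsQCoh O := hO.1
  obtain ⟨M, hMi, ⟨i⟩⟩ := Groth.L08.Cube.exists_inverse hL.1
  let θ : ∀ x : X, X.presheaf.stalk x ≃ₗ[X.presheaf.stalk x] O.presheaf.stalk x := fun x =>
    LinearEquiv.ofBijective (LinearMap.toSpanSingleton _ _ (one X x)) (bijective_smul_one x)
  have hdepth' : ∀ x : X, IsClosed ({x} : Set X) → 2 ≤ LocCoh.depth (X.presheaf.stalk x) (O.presheaf.stalk x) :=
    fun x hx => (hdepth x hx).trans_eq (Groth.L04.idealDepth_congr (θ x))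
  have hass : ∀ x : X, IsClosed ({x} : Set X) → ¬ Curv2.IsAssPoint O x := fun x hx h => by
    haveI : Module.Finite (X.presheaf.stalk x) (O.presheaf.stalk x) :=
      Groth.L19.SupportPullback.finite_stalk O hO x
    obtain ⟨-, f, hf⟩ := (isAssociatedPrime_iff_exists_injective_linearMap _ _).1 h
    have h1 : f (Submodule.Quotient.mk 1) ≠ 0 := fun h0 => by
      have := hf (h0.trans (map_zero f).symm)
      rw [Submodule.Quotient.mk_eq_zero] at this
      exact (IsLocalRing.maximalIdeal.isMaximal _).ne_top ((Ideal.eq_top_iff_one _).2 this)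
    have h0 := Groth.L01.depth_eq_zero_of_smul_eq_zero h1 fun y hy => by
      rw [← map_smul, ← Submodule.Quotient.mk_smul, smul_eq_mul, mul_one,
        (Submodule.Quotient.mk_eq_zero _).2 hy, map_zero]
    have := hdepth' x hx
    rw [h0] at this
    exact absurd this (by norm_num)
  have hnonempty : ((CohB1.genLocus L s : Set X)ᶜ).Nonempty := by
    by_contra h
    rw [Set.not_nonempty_iff_eq_empty, Set.compl_empty_iff] at h
    have htop : CohB1.genLocus L s = ⊤ := Opens.ext h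
    have hfr := Groth.L18.GenLoc.isFrame_genLocus s
    rw [htop] at hfr
    obtain ⟨j⟩ := Groth.L08.Cube.nonempty_iso_of_frame_top hfr
    let jM : M ≅ O := (Groth.L00.Tensor.tensorUnitLeft M).symm ≪≫
      Groth.L00.Tensor.tensorIso j.symm (Iso.refl M) ≪≫ i
    obtain ⟨n₀, hn₀⟩ := Groth.Agent.S7679.result k X L hL M ⟨i⟩ O hO hass
    have hsub : Subsingleton (Coh.HH X O 0) := subsingleton_of_iso
      (Groth.L00.Tensor.tensorIso (Iso.refl O) (Groth.L00.Tensor.tensorPowIso jM n₀ ≪≫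
        Groth.L00.Tensor.tensorPowUnit X n₀) ≪≫ Groth.L00.Tensor.tensorUnitRight O) 0 (hn₀ n₀ le_rfl)
    haveI : Subsingleton Γ(O, ⊤) := (e0 O).symm.toEquiv.subsingleton
    obtain ⟨x⟩ := (inferInstance : Nonempty X)
    have h10 : (1 : Γ(X, ⊤)) = 0 := Subsingleton.elim (α := Γ(O, ⊤)) _ _
    have h10' := congrArg (X.presheaf.germ ⊤ x trivial) h10
    rw [map_one, map_zero] at h10'
    exact one_ne_zero h10'
  obtain ⟨n₀, hn₀⟩ := Groth.Agent.S7680.result k X L hL M ⟨i⟩ O hO hdepth'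
  let N := n₀ + 1
  let Q := CohB1.tensorPow L N
  let R := CohB1.tensorPow M N
  have hQ := Groth.L18.Ample.isInvertible_tensorPow hL.1 N
  let e : CohB1.tensorMod R Q ≅ Coh.structureModule X := powInv i N
  let φ : Coh.structureModule X ⟶ Q := Groth.L18.Ample.pw s N
  have hG : CohB1.genLocus Q φ = CohB1.genLocus L s := Groth.L18.Ample.genLocus_pw_succ hL.1 s n₀
  let π := cokernel.π (down e O φ)
  let C := cokernel (down e O φ)
  have hassG : ∀ ξ : X, Curv2.IsAssPoint O ξ → ξ ∈ CohB1.genLocus L s := by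
    intro ξ hξ
    obtain ⟨W, ε, hξW, hε⟩ := Groth.L18.Frame.exists_frame hL.1 ξ
    obtain ⟨b, hb, hb'⟩ := Groth.L21.RR.exists_coeff_secOf hε s
    by_contra hnot
    have hbm : X.presheaf.germ W ξ hξW b ∈ IsLocalRing.maximalIdeal (X.presheaf.stalk ξ) := by
      rw [IsLocalRing.mem_maximalIdeal, mem_nonunits_iff]
      intro hu
      exact hnot ((Groth.L18.GenLoc.genLocus_inf_eq s hε hb).ge ((X.mem_basicOpen b ξ hξW).2 hu)).1
    obtain ⟨-, f, hf⟩ := (isAssociatedPrime_iff_exists_injective_linearMap _ _).1 hξ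
    have hv0 : f (Submodule.Quotient.mk 1) ≠ 0 := fun h0 => by
      have := hf (h0.trans (map_zero f).symm)
      rw [Submodule.Quotient.mk_eq_zero] at this
      exact (IsLocalRing.maximalIdeal.isMaximal _).ne_top ((Ideal.eq_top_iff_one _).2 this)
    have hbv : X.presheaf.germ W ξ hξW b • f (Submodule.Quotient.mk 1) = 0 := by
      rw [← map_smul, ← Submodule.Quotient.mk_smul, smul_eq_mul, mul_one,
        (Submodule.Quotient.mk_eq_zero _).2 hbm, map_zero]
    obtain ⟨a, ha⟩ := (bijective_smul_one ξ).2 (f (Submodule.Quotient.mk 1))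
    refine hv0 ((Groth.L21.Mod.mono_iff_stalk_injective s).1 hs ξ ?_)
    show st s ξ (f (Submodule.Quotient.mk 1)) = st s ξ 0
    change a • one X ξ = f (Submodule.Quotient.mk 1) at ha
    rw [← ha, map_smul, ← hb' ξ hξW, map_zero, smul_smul, mul_comm, ← smul_smul]
    have hab : X.presheaf.germ W ξ hξW b * a = 0 := by
      refine (bijective_smul_one ξ).1 ?_
      show (X.presheaf.germ W ξ hξW b * a) • one X ξ = (0 : X.presheaf.stalk ξ) • one X ξ
      rw [zero_smul, mul_smul, ha, hbv]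
    rw [smul_smul, hab, zero_smul]
  haveI : Mono (down e O φ) := by
    haveI : Coh.IsQCoh (CohB1.tensorMod O R) :=
      (Groth.L03.Euler.isCoh_tensor (Groth.L18.Ample.isInvertible_tensorPow hMi N) hO).1
    refine mono_of_injective_ass _ fun ξ hξ => (bijective_down e O hQ ?_).injective
    rw [hG]
    exact hassG ξ ((isAssPoint_tensor_iff (Groth.L18.Ample.isInvertible_tensorPow hMi N) O ξ).1 hξ)
  have hS : (ShortComplex.mk (down e O φ) π (cokernel.condition _)).ShortExact :=
    { exact := ShortComplex.exact_cokernel _ }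
  have hlift : ∀ σ : Γ(C, ⊤), ∃ f : Γ(X, ⊤), π.app ⊤ (show Γ(O, ⊤) from f) = σ := fun σ => by
    haveI : Subsingleton (Coh.HH X (CohB1.tensorMod O R) (0 + 1)) := hn₀ N (Nat.le_succ _)
    obtain ⟨y, hy⟩ := (Groth.L16.CohLinear.exact_hmap_delta hS 0 ((e0 C).symm σ)).1 (Subsingleton.elim _ _)
    refine ⟨e0 O y, ?_⟩
    show π.app ⊤ (e0 O y) = σ
    rw [← e0_hmap, hy, AddEquiv.apply_symm_apply]
  have hsmall : ∀ (x : X) (f : Γ(X, ⊤)), x ∉ CohB1.genLocus L s →
      C.presheaf.germ ⊤ x trivial (π.app ⊤ (show Γ(O, ⊤) from f)) = 0 →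
        ¬ IsUnit (X.presheaf.germ ⊤ x trivial f) := by
    intro x f hx h0 hu
    rw [← st_germ] at h0
    obtain ⟨w, hw⟩ := Groth.L21.RR.exists_of_st_cokernel (down e O φ) x _ h0
    have hmem := st_down_mem e hQ O (φ := φ) (x := x) (by rw [hG]; exact hx) w
    rw [hw] at hmem
    have hgerm : O.presheaf.germ ⊤ x trivial (show Γ(O, ⊤) from f) = X.presheaf.germ ⊤ x trivial f • one X x := by
      rw [one, ← Groth.L20.ModStalk.germ_smul]
      exact congrArg (O.presheaf.germ ⊤ x trivial) (mul_one f).symm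
    rw [hgerm] at hmem
    have h1 : one X x ∈ IsLocalRing.maximalIdeal (X.presheaf.stalk x) •
        (⊤ : Submodule (X.presheaf.stalk x) (O.presheaf.stalk x)) := by
      have := Submodule.smul_mem _ (↑hu.unit⁻¹ : X.presheaf.stalk x) hmem
      rwa [smul_smul, IsUnit.val_inv_mul, one_smul] at this
    have h2 : IsLocalRing.maximalIdeal (X.presheaf.stalk x) • (⊤ : Submodule (X.presheaf.stalk x) (O.presheaf.stalk x)) ≤
        Submodule.map (LinearMap.toSpanSingleton (X.presheaf.stalk x) (O.presheaf.stalk x) (one X x)) (IsLocalRing.maximalIdeal (X.presheaf.stalk x)) := by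
      refine Submodule.smul_le.2 fun r hr v _ => ?_
      obtain ⟨a, rfl⟩ := (bijective_smul_one x).2 v
      exact ⟨r * a, Ideal.mul_mem_right _ _ hr, (smul_smul r a _).symm⟩
    obtain ⟨a, ha, ha1⟩ := h2 h1
    have : a = 1 := (bijective_smul_one x).1 (ha1.trans (one_smul _ _).symm)
    exact (IsLocalRing.maximalIdeal.isMaximal _).ne_top ((Ideal.eq_top_iff_one _).2 (this ▸ ha))
  have hzero : ∀ x ∈ CohB1.genLocus L s, Subsingleton (C.presheaf.stalk x) := fun x hx => by
    refine subsingleton_of_forall_eq 0 fun c => ?_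
    obtain ⟨v, rfl⟩ := (ModuleCat.epi_iff_surjective ((Groth.L00.Stk.F X x).map π)).1 (Functor.map_epi _ _) c
    obtain ⟨w, rfl⟩ := (bijective_down e O hQ (x := x) (by rw [hG]; exact hx)).2 v
    refine (Groth.L21.RR.st_comp (down e O φ) π x w).symm.trans ?_
    rw [cokernel.condition, st, Functor.map_zero]; rfl
  refine ⟨hnonempty, isPreconnected_closed_iff.2 fun A B hA hB hAB hnA hnB => ?_⟩
  by_contra hdis
  let Z : Set X := (CohB1.genLocus L s : Set X)ᶜ
  have hZ : IsClosed Z := (CohB1.genLocus L s).2.isClosed_compl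
  let UA : X.Opens := ⟨(Z ∩ B)ᶜ, (hZ.inter hB).isOpen_compl⟩
  let UB : X.Opens := ⟨(Z ∩ A)ᶜ, (hZ.inter hA).isOpen_compl⟩
  let U : Bool → X.Opens := fun b => bif b then UA else UB
  let sf : ∀ b : Bool, Γ(C, U b) := fun b => match b with
    | true => rs C (le_top : UA ≤ ⊤) (π.app ⊤ (show Γ(O, ⊤) from (1 : Γ(X, ⊤))))
    | false => 0
  have hdis' : ∀ x ∈ UA ⊓ UB, x ∈ CohB1.genLocus L s := fun x hx => by
    by_contra h
    rcases hAB h with ha | hb
    · exact hx.2 ⟨h, ha⟩
    · exact hx.1 ⟨h, hb⟩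
  have hcompat : TopCat.Presheaf.IsCompatible C.presheaf U sf := by
    intro b b'
    refine Groth.L21.RR.germ_ext fun x hx => ?_
    cases b <;> cases b' <;> first | rfl | skip
    · haveI := hzero x (hdis' x ⟨hx.2, hx.1⟩); exact Subsingleton.elim _ _
    · haveI := hzero x (hdis' x ⟨hx.1, hx.2⟩); exact Subsingleton.elim _ _
  have hcover : (⊤ : X.Opens) ≤ iSup U := fun x _ => by
    by_cases h : x ∈ Z ∩ B
    · refine Opens.mem_iSup.2 ⟨false, fun h' => hdis ⟨x, h.1, h'.2, h.2⟩⟩
    · exact Opens.mem_iSup.2 ⟨true, h⟩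
  obtain ⟨σ, hσ, -⟩ := TopCat.Sheaf.existsUnique_gluing' ((SheafOfModules.toSheaf _).obj C) U ⊤
    (fun b => homOfLE le_top) hcover sf hcompat
  obtain ⟨f, hf⟩ := hlift σ
  obtain ⟨a, haZ, haA⟩ := hnA
  obtain ⟨b, hbZ, hbB⟩ := hnB
  have haU : a ∈ UA := fun h => hdis ⟨a, haZ, haA, h.2⟩
  have hbU : b ∈ UB := fun h => hdis ⟨b, hbZ, h.2, hbB⟩
  have hb0 : C.presheaf.germ ⊤ b trivial σ = 0 := by
    rw [← Groth.L20.ModStalk.germ_rs C (le_top : UB ≤ ⊤) hbU σ]
    exact (congrArg (C.presheaf.germ UB b hbU) (hσ false)).trans (map_zero _)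
  have ha0 : C.presheaf.germ ⊤ a trivial σ = C.presheaf.germ ⊤ a trivial (π.app ⊤ (show Γ(O, ⊤) from (1 : Γ(X, ⊤)))) := by
    rw [← Groth.L20.ModStalk.germ_rs C (le_top : UA ≤ ⊤) haU σ, ← Groth.L20.ModStalk.germ_rs C (le_top : UA ≤ ⊤) haU (π.app ⊤ _)]
    exact congrArg (C.presheaf.germ UA a haU) (hσ true)
  rw [← hf] at ha0 hb0
  have h1 : ¬ IsUnit (X.presheaf.germ ⊤ a trivial (f - 1)) := hsmall a (f - 1) haZ (by
    show C.presheaf.germ ⊤ a trivial (π.app ⊤ ((show Γ(O, ⊤) from f) - (show Γ(O, ⊤) from (1 : Γ(X, ⊤))))) = 0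
    rw [map_sub, map_sub, ha0, sub_self])
  have hfa : IsUnit (X.presheaf.germ ⊤ a trivial f) := by
    refine (IsLocalRing.isUnit_or_isUnit_one_sub_self _).resolve_right fun h => h1 ?_
    rw [map_sub, map_one]
    have := h.neg
    rwa [neg_sub] at this
  exact hsmall b f hbZ hb0 (isUnit_germ_iff k f a b hfa)

end Groth.L22.EnrSev
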