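import Groth.Agent.L22.EnrSev.Twist
import Groth.Agent.L04.CMBasic
import Groth.Agent.L01.DepthBasic

/-!
Injectivity on first cohomology of multiplications on high negative twists, and the vanishing theorem.
-/

set_option autoImplicit false
set_option linter.style.haveILetI false
universe u

open CategoryTheory CategoryTheory.Limits AlgebraicGeometry TopologicalSpace Opposite
open scoped TensorProduct

noncomputable section

namespace Groth.L22.EnrSev

open Groth.L00.Tensor (tensorMap tensorIso tensorRightF)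
open Groth.L18.GenLoc (secOf)
open Groth.L18.Ample (tw)
open Groth.L21.RR (mulS st st_comp hk finite_HH')

/-- A regular element of the maximal ideal cuts the depth. -/
theorem not_isAssociatedPrime_quotient {A : Type u} [CommRing A] [IsLocalRing A] [IsNoetherianRing A]
    {M : Type u} [AddCommGroup M] [Module A M] [Module.Finite A M] (hd : 2 ≤ LocCoh.depth A M) {b : A}
    (hb : b ∈ IsLocalRing.maximalIdeal A) (hreg : IsSMulRegular M b) :
    ¬ IsAssociatedPrime (IsLocalRing.maximalIdeal A) (M ⧸ Ideal.ofList [b] • (⊤ : Submodule A M)) := by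
  intro h
  obtain ⟨-, f, hf⟩ := (isAssociatedPrime_iff_exists_injective_linearMap _ _).1 h
  haveI : Nontrivial M := by
    by_contra hM
    haveI := not_nontrivial_iff_subsingleton.1 hM
    haveI : Subsingleton (M ⧸ Ideal.ofList [b] • (⊤ : Submodule A M)) :=
      (Submodule.mkQ_surjective _).subsingleton
    have h1 := hf (Subsingleton.elim (f (Submodule.Quotient.mk 1)) (f 0))
    rw [Submodule.Quotient.mk_eq_zero] at h1
    exact (IsLocalRing.maximalIdeal.isMaximal A).ne_top ((Ideal.eq_top_iff_one _).2 h1)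
  have h0 : LocCoh.depth A (M ⧸ Ideal.ofList [b] • (⊤ : Submodule A M)) = 0 := by
    refine Groth.L01.depth_eq_zero_of_smul_eq_zero (m := f (Submodule.Quotient.mk 1)) ?_ fun x hx => ?_
    · intro h1
      have := hf (h1.trans (map_zero f).symm)
      rw [Submodule.Quotient.mk_eq_zero] at this
      exact (IsLocalRing.maximalIdeal.isMaximal A).ne_top ((Ideal.eq_top_iff_one _).2 this)
    · rw [← map_smul, ← Submodule.Quotient.mk_smul, smul_eq_mul, mul_one,
        (Submodule.Quotient.mk_eq_zero _).2 hx, map_zero]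
  have key := Groth.L04.depth_quotient_ofList_add (M := M) (rs := [b])
    ((RingTheory.Sequence.isWeaklyRegular_singleton_iff M b).2 hreg) (by simpa using hb)
  rw [h0, zero_add, List.length_singleton, Nat.cast_one] at key
  rw [← key] at hd
  exact absurd hd (by norm_num)

variable {X : Scheme.{u}} {Q R : X.Modules} (e : CohB1.tensorMod R Q ≅ Coh.structureModule X)

/-- Contracting with a germ of a section. -/
def ell (G : X.Modules) {x : X} (q : Q.presheaf.stalk x) :
    (CohB1.tensorMod G R).presheaf.stalk x →ₗ[X.presheaf.stalk x] G.presheaf.stalk x :=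
  st (cI e G).hom x ∘ₗ (Groth.L00.Stk.τ x (CohB1.tensorMod G R) Q).hom.hom ∘ₗ
    (TensorProduct.mk (X.presheaf.stalk x) ((CohB1.tensorMod G R).presheaf.stalk x) (Q.presheaf.stalk x)).flip q

theorem st_down_eq_ell (G : X.Modules) {χ : Coh.structureModule X ⟶ Q} {x : X} {q : Q.presheaf.stalk x}
    {a : X.presheaf.stalk x} (h : Q.presheaf.germ ⊤ x trivial (secOf χ) = a • q)
    (v : (CohB1.tensorMod G R).presheaf.stalk x) : st (down e G χ) x v = a • ell e G q v := by
  show st (mulS (CohB1.tensorMod G R) χ ≫ (cI e G).hom) x v = _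
  rw [st_comp, st_mulS_eq, h]
  have hτ : (Groth.L00.Stk.τ x (CohB1.tensorMod G R) Q).hom (v ⊗ₜ[X.presheaf.stalk x] (a • q)) =
      a • (Groth.L00.Stk.τ x (CohB1.tensorMod G R) Q).hom (v ⊗ₜ[X.presheaf.stalk x] q) :=
    (congrArg _ ((TensorProduct.mk (X.presheaf.stalk x) _ _ v).map_smul a q)).trans (map_smul _ a _)
  rw [hτ]
  exact map_smul _ a _

theorem bijective_ell (G : X.Modules) {x : X} {q : Q.presheaf.stalk x}
    (hq : Function.Bijective fun a : X.presheaf.stalk x => a • q) : Function.Bijective (ell e G q) := by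
  let g : X.presheaf.stalk x ≃ₗ[X.presheaf.stalk x] Q.presheaf.stalk x :=
    LinearEquiv.ofBijective (LinearMap.toSpanSingleton _ _ q) hq
  let θ : (CohB1.tensorMod G R).presheaf.stalk x ≃ₗ[X.presheaf.stalk x] G.presheaf.stalk x :=
    (TensorProduct.rid _ _).symm ≪≫ₗ TensorProduct.congr (LinearEquiv.refl _ _) g ≪≫ₗ
      (Groth.L00.Stk.τ x (CohB1.tensorMod G R) Q).toLinearEquiv ≪≫ₗ
      ((Groth.L00.Stk.F X x).mapIso (cI e G)).toLinearEquiv
  have : ⇑(ell e G q) = θ := by
    funext v
    show st (cI e G).hom x ((Groth.L00.Stk.τ x _ Q).hom (v ⊗ₜ q)) =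
      st (cI e G).hom x ((Groth.L00.Stk.τ x _ Q).hom (v ⊗ₜ ((1 : X.presheaf.stalk x) • q)))
    rw [one_smul]
  rw [this]
  exact θ.bijective

/-- Iterated contraction. -/
def theta (F : X.Modules) {x : X} (q : Q.presheaf.stalk x) (j : ℕ) :
    ∀ d, (tw F R (j + d)).presheaf.stalk x →ₗ[X.presheaf.stalk x] (tw F R j).presheaf.stalk x
  | 0 => LinearMap.id
  | d + 1 => theta F q j d ∘ₗ ell e (tw F R (j + d)) q

theorem bijective_theta (F : X.Modules) {x : X} {q : Q.presheaf.stalk x}
    (hq : Function.Bijective fun a : X.presheaf.stalk x => a • q) (j : ℕ) :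
    ∀ d, Function.Bijective (theta e F q j d)
  | 0 => Function.bijective_id
  | d + 1 => (bijective_theta F hq j d).comp (bijective_ell e _ hq)

theorem st_dnN_eq (F : X.Modules) {φ : Coh.structureModule X ⟶ Q} {x : X} {q : Q.presheaf.stalk x}
    {a : X.presheaf.stalk x} (h : Q.presheaf.germ ⊤ x trivial (secOf φ) = a • q) (j : ℕ) :
    ∀ (d : ℕ) (v : (tw F R (j + d)).presheaf.stalk x), st (dnN e F φ j d) x v = a ^ d • theta e F q j d v
  | 0, v => by
    simp only [dnN, theta, pow_zero, one_smul]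
    show ((Groth.L00.Stk.F X x).map (𝟙 _)).hom v = v
    rw [CategoryTheory.Functor.map_id]; rfl
  | d + 1, v => by
    rw [st_dnN_succ, show st (dn e F φ (j + d)) x v = a • ell e (tw F R (j + d)) q v from st_down_eq_ell e _ h v,
      map_smul, st_dnN_eq F h j d, smul_smul, pow_succ']
    rfl

variable (k : Type u) [Field k] [X.Over (Spec (CommRingCat.of k))] (F : X.Modules)
  (φ ψ : Coh.structureModule X ⟶ Q)

theorem st_Phi_eq {x : X} {q : Q.presheaf.stalk x} {a b : X.presheaf.stalk x}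
    (ha : Q.presheaf.germ ⊤ x trivial (secOf φ) = a • q) (hb : Q.presheaf.germ ⊤ x trivial (secOf ψ) = b • q) :
    ∀ (d : ℕ) (c : ℕ → k) (j : ℕ), ∃ β : X.presheaf.stalk x, ∀ v,
      st (Phi e k F φ ψ c d j) x v = β • theta e F q j d v
  | 0, c, j => ⟨1, fun v => by
      simp only [Phi, theta, one_smul]
      show ((Groth.L00.Stk.F X x).map (𝟙 _)).hom v = v
      rw [CategoryTheory.Functor.map_id]; rfl⟩
  | d + 1, c, j => by
    obtain ⟨β, hβ⟩ := st_Phi_eq ha hb d (fun i => c (i + 1)) j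
    refine ⟨b * β + Curv2.stalkMap k X x (c 0) * a * a ^ d, fun v => ?_⟩
    simp only [Phi]
    have hadd : ∀ (f g : tw F R (j + (d + 1)) ⟶ tw F R j), st (f + g) x v = st f x v + st g x v := fun f g => by
      show ((Groth.L00.Stk.F X x).map (f + g)).hom v = _
      rw [Functor.map_add]; rfl
    rw [hadd, st_comp, st_comp, hβ, st_dnN_eq e F ha]
    rw [show st (dn e F ψ (j + d)) x v = b • ell e (tw F R (j + d)) q v from st_down_eq_ell e _ hb v,
      show st (dn e F (scale k (c 0) φ) (j + d)) x v =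
        (Curv2.stalkMap k X x (c 0) * a) • ell e (tw F R (j + d)) q v from
      st_down_eq_ell e _ (by rw [germ_scale, ha, smul_smul]) v]
    simp only [map_smul, smul_smul, add_smul]
    show _ = (b * β) • theta e F q j d (ell e (tw F R (j + d)) q v) +
      (Curv2.stalkMap k X x (c 0) * a * a ^ d) • theta e F q j d (ell e (tw F R (j + d)) q v)
    congr 2
    · ring
    · ring

theorem exists_pol {p : Polynomial k} : ∀ (d : ℕ), p.Monic → p.natDegree = d →
    ∃ c : ℕ → k, Pol k c d = p := by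
  intro d
  induction d generalizing p with
  | zero => exact fun hp hd => ⟨fun _ => 0, (Polynomial.Monic.natDegree_eq_zero hp).1 hd |>.symm⟩
  | succ d ih =>
    intro hp hd
    have hm : p.divX.Monic := by
      unfold Polynomial.Monic Polynomial.leadingCoeff
      rw [Polynomial.natDegree_divX_eq_natDegree_tsub_one, Polynomial.coeff_divX, hd, Nat.add_sub_cancel, ← hd]
      exact hp
    obtain ⟨c, hc⟩ := ih hm (by rw [Polynomial.natDegree_divX_eq_natDegree_tsub_one, hd, Nat.add_sub_cancel])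
    refine ⟨fun i => i.casesOn (p.coeff 0) c, ?_⟩
    show Pol k c d * Polynomial.X + Polynomial.C (p.coeff 0) = p
    rw [hc]
    exact Polynomial.divX_mul_X_add p

variable [IsProper (X ↘ Spec (CommRingCat.of k))]

include k in
/-- A family of monomorphisms compatible with twisting, with regular scalars as stalk maps, is eventually
injective on first cohomology. -/
theorem eventually_injective_hk (hR : PicF.IsInvertible R) (hF : Coh.IsCoh F)
    (hdepth : ∀ x : X, IsClosed ({x} : Set X) → 2 ≤ LocCoh.depth (X.presheaf.stalk x) (F.presheaf.stalk x))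
    (hH0 : ∀ C : X.Modules, Coh.IsCoh C → (∀ x : X, IsClosed ({x} : Set X) → ¬ Curv2.IsAssPoint C x) →
      ∃ j₀ : ℕ, ∀ j, j₀ ≤ j → Subsingleton (Coh.HH X (tw C R j) 0))
    (d : ℕ) (g : ∀ j, tw F R (j + d) ⟶ tw F R j) (hmono : ∀ j, Mono (g j))
    (hg : ∀ j, eqToHom (eq_src (R := R) F j d) ≫ g (j + 1) = (tensorRightF R).map (g j))
    (hst : ∀ x : X, ∃ (β : X.presheaf.stalk x)
      (θ : (tw F R (0 + d)).presheaf.stalk x →ₗ[X.presheaf.stalk x] F.presheaf.stalk x),
      Function.Bijective θ ∧ ∀ v, st (g 0) x v = β • θ v) :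
    ∃ j₁ : ℕ, ∀ j, j₁ ≤ j → Function.Injective (hk k (g j) 1) := by
  haveI := Groth.L21.RR.isNoetherian_of_proper (X := X) k
  have hc := isCoh_tw hF hR
  let C := cokernel (g 0)
  have hC : Coh.IsCoh C := (Groth.L16.CohKernel.isCoh_kernel_cokernel (hc _) hF (g 0)).2
  have hass : ∀ x : X, IsClosed ({x} : Set X) → ¬ Curv2.IsAssPoint C x := by
    intro x hx hassC
    obtain ⟨β, θ, hθ, hβ⟩ := hst x
    let T := Groth.L00.Stk.F X x
    haveI : Module.Finite (X.presheaf.stalk x) (F.presheaf.stalk x) :=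
      Groth.L19.SupportPullback.finite_stalk F hF x
    let π : F.presheaf.stalk x →ₗ[X.presheaf.stalk x] C.presheaf.stalk x := st (cokernel.π (g 0)) x
    have hπ : Function.Surjective π :=
      (ModuleCat.epi_iff_surjective (T.map (cokernel.π (g 0)))).1 (Functor.map_epi _ _)
    have hex : ∀ v : F.presheaf.stalk x, π v = 0 ↔ ∃ w, (st (g 0) x w : F.presheaf.stalk x) = v := fun v =>
      ⟨Groth.L21.RR.exists_of_st_cokernel (g 0) x v, fun ⟨w, hw⟩ => by
        subst hw
        refine (st_comp (g 0) (cokernel.π (g 0)) x w).symm.trans ?_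
        rw [cokernel.condition, st, Functor.map_zero]; rfl⟩
    have hinj : Function.Injective (st (g 0) x) := (Groth.L21.Mod.mono_iff_stalk_injective _).1 (hmono 0) x
    by_cases hβm : β ∈ IsLocalRing.maximalIdeal (X.presheaf.stalk x)
    · have hreg : IsSMulRegular (F.presheaf.stalk x) β := by
        intro u v huv
        obtain ⟨u', rfl⟩ := hθ.2 u
        obtain ⟨v', rfl⟩ := hθ.2 v
        exact congrArg θ (hinj (by rw [hβ, hβ]; exact huv))
      refine not_isAssociatedPrime_quotient (hdepth x hx) hβm hreg ?_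
      have hle : Ideal.ofList [β] • (⊤ : Submodule (X.presheaf.stalk x) (F.presheaf.stalk x)) =
          LinearMap.ker π := by
        ext v
        rw [Ideal.ofList_singleton, Submodule.ideal_span_singleton_smul, LinearMap.mem_ker, hex,
          Submodule.mem_smul_pointwise_iff_exists]
        constructor
        · rintro ⟨u, -, rfl⟩
          obtain ⟨w, rfl⟩ := hθ.2 u
          exact ⟨w, hβ w⟩
        · rintro ⟨w, rfl⟩
          exact ⟨θ w, trivial, (hβ w).symm⟩
      exact (LinearEquiv.isAssociatedPrime_iff ((Submodule.quotEquivOfEq _ _ hle) ≪≫ₗ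
        LinearMap.quotKerEquivOfSurjective _ hπ)).2 hassC
    · have hu : IsUnit β := not_not.1 hβm
      haveI : Subsingleton (C.presheaf.stalk x) := subsingleton_of_forall_eq 0 fun c => by
        obtain ⟨v, rfl⟩ := hπ c
        obtain ⟨w, hw⟩ := hθ.2 ((↑hu.unit⁻¹ : X.presheaf.stalk x) • v)
        refine (hex v).2 ⟨w, (hβ w).trans ?_⟩
        rw [hw, smul_smul, IsUnit.mul_val_inv, one_smul]
      obtain ⟨hp, f, hf⟩ := (isAssociatedPrime_iff_exists_injective_linearMap _ _).1 hassC
      have h1 := hf (Subsingleton.elim (f (Submodule.Quotient.mk 1)) (f 0))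
      rw [Submodule.Quotient.mk_eq_zero] at h1
      exact hp.ne_top ((Ideal.eq_top_iff_one _).2 h1)
  have hiso : ∀ j, Nonempty (cokernel (g j) ≅ tw C R j) := by
    intro j
    induction j with
    | zero => exact ⟨Iso.refl _⟩
    | succ j ih =>
      obtain ⟨i⟩ := ih
      exact ⟨(cokernelEpiComp (eqToHom (eq_src (R := R) F j d)) (g (j + 1))).symm ≪≫
        cokernelIsoOfEq (hg j) ≪≫ (PreservesCokernel.iso (tensorRightF R) (g j)).symm ≪≫
        (tensorRightF R).mapIso i⟩
  obtain ⟨j₁, hj₁⟩ := hH0 C hC hass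
  refine ⟨j₁, fun j hj => ?_⟩
  obtain ⟨i⟩ := hiso j
  haveI := hmono j
  have hS : (ShortComplex.mk (g j) (cokernel.π (g j)) (cokernel.condition _)).ShortExact :=
    { exact := ShortComplex.exact_cokernel (g j) }
  haveI : Subsingleton (Coh.HH X (cokernel (g j)) 0) := subsingleton_of_iso i.symm 0 (hj₁ j hj)
  refine (injective_iff_map_eq_zero _).2 fun y hy => ?_
  obtain ⟨z, rfl⟩ := (Groth.L16.CohLinear.exact_delta_hmap hS 0 y).1 hy
  rw [Subsingleton.elim z 0, map_zero]

include k e in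
/-- The vanishing theorem, given a pair of sections in general position. -/
theorem subsingleton_H1_tw (hQ : PicF.IsInvertible Q) (hR : PicF.IsInvertible R) (hF : Coh.IsCoh F)
    (hdepth : ∀ x : X, IsClosed ({x} : Set X) → 2 ≤ LocCoh.depth (X.presheaf.stalk x) (F.presheaf.stalk x))
    (hH0 : ∀ C : X.Modules, Coh.IsCoh C → (∀ x : X, IsClosed ({x} : Set X) → ¬ Curv2.IsAssPoint C x) →
      ∃ j₀ : ℕ, ∀ j, j₀ ≤ j → Subsingleton (Coh.HH X (tw C R j) 0))
    (hgen : ∀ ξ : X, Curv2.IsAssPoint F ξ → ξ ∈ CohB1.genLocus Q φ ∧ ∃ γ : X.presheaf.stalk ξ,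
      Q.presheaf.germ ⊤ ξ trivial (secOf ψ) = γ • Q.presheaf.germ ⊤ ξ trivial (secOf φ) ∧
      ∀ p : Polynomial k, p ≠ 0 → p.eval₂ (Curv2.resMap k X ξ) (X.residue ξ γ) ≠ 0) :
    ∃ j₀ : ℕ, ∀ j, j₀ ≤ j → Subsingleton (Coh.HH X (tw F R j) 1) := by
  haveI := Groth.L21.RR.isNoetherian_of_proper (X := X) k
  have hc := isCoh_tw hF hR
  haveI : ∀ j, Coh.IsQCoh (tw F R j) := fun j => (hc j).1
  haveI : ∀ j, Module.Finite k (Coh.HH X (tw F R j) 1) := fun j => finite_HH' k (hc j) 1
  have hbij : ∀ j ξ, Curv2.IsAssPoint F ξ → ∀ d, Function.Bijective (st (dnN e F φ j d) ξ) := by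
    intro j ξ hξ d
    induction d with
    | zero =>
      show Function.Bijective ((Groth.L00.Stk.F X ξ).map (𝟙 (tw F R j))).hom
      rw [CategoryTheory.Functor.map_id]
      exact Function.bijective_id
    | succ d ih =>
      have : ⇑(st (dnN e F φ j (d + 1)) ξ) = st (dnN e F φ j d) ξ ∘ st (dn e F φ (j + d)) ξ :=
        funext fun v => st_dnN_succ e F φ j d v
      rw [this]
      exact ih.comp (bijective_down e _ hQ (hgen ξ hξ).1)
  have hmono : ∀ j, Mono (dn e F φ j) := fun j => mono_of_injective_ass _ fun ξ hξ =>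
    (bijective_down e (tw F R j) hQ (hgen ξ ((isAssPoint_tw hR ξ (j + 1)).1 hξ)).1).injective
  have hmonoPhi : ∀ (d : ℕ) (c : ℕ → k), Pol k c d ≠ 0 → ∀ j, Mono (Phi e k F φ ψ c d j) := fun d c hp j =>
    mono_of_injective_ass _ fun ξ hξ => by
      have hξF := (isAssPoint_tw hR ξ (j + d)).1 hξ
      obtain ⟨-, γ, hγ, htr⟩ := hgen ξ hξF
      have hu : IsUnit ((Pol k c d).eval₂ (Curv2.stalkMap k X ξ) γ) := by
        by_contra hnu
        refine htr _ hp ?_
        rw [show Curv2.resMap k X ξ = (X.residue ξ).hom.comp (Curv2.stalkMap k X ξ) from rfl,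
          ← Polynomial.hom_eval₂]
        exact (IsLocalRing.residue_eq_zero_iff _).2 hnu
      intro a b hab
      rw [st_Phi e k F φ ψ hγ, st_Phi e k F φ ψ hγ] at hab
      exact (hbij j ξ hξF d).injective (hu.smul_left_cancel.1 hab)
  have hframe : ∀ x : X, ∃ (q : Q.presheaf.stalk x) (a b : X.presheaf.stalk x),
      Function.Bijective (fun r : X.presheaf.stalk x => r • q) ∧
      Q.presheaf.germ ⊤ x trivial (secOf φ) = a • q ∧ Q.presheaf.germ ⊤ x trivial (secOf ψ) = b • q := by
    intro x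
    obtain ⟨q, hq⟩ := Groth.L21.RR.exists_frame_stalk hQ x
    obtain ⟨a, ha⟩ := hq.2 (Q.presheaf.germ ⊤ x trivial (secOf φ))
    obtain ⟨b, hb⟩ := hq.2 (Q.presheaf.germ ⊤ x trivial (secOf ψ))
    exact ⟨q, a, b, hq, ha.symm, hb.symm⟩
  obtain ⟨j₁, hj₁⟩ := eventually_injective_hk k F hR hF hdepth hH0 1 (fun j => dn e F φ j) hmono
    (fun j => (Category.id_comp _).trans (dn_succ e hQ F φ hmono φ j)) fun x => by
      obtain ⟨q, a, b, hq, ha, -⟩ := hframe x
      exact ⟨a, ell e F q, bijective_ell e F hq, fun v => st_down_eq_ell e F ha v⟩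
  let dim : ℕ → ℕ := fun i => Module.finrank k (Coh.HH X (tw F R (j₁ + i)) 1)
  have hanti : Antitone dim := antitone_nat_of_succ_le fun i =>
    LinearMap.finrank_le_finrank_of_injective (hj₁ (j₁ + i) (Nat.le_add_right _ _))
  obtain ⟨_, ⟨i₀, rfl⟩, hmin⟩ := WellFounded.has_min (r := ((· < ·) : ℕ → ℕ → Prop)) wellFounded_lt
    (Set.range dim) (Set.range_nonempty dim)
  let J := j₁ + i₀
  have hconst : ∀ j, J ≤ j → Module.finrank k (Coh.HH X (tw F R j) 1) = dim i₀ := fun j hj => by
    obtain ⟨i, rfl⟩ : ∃ i, j = j₁ + i := ⟨j - j₁, by omega⟩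
    exact le_antisymm (hanti (by omega)) (not_lt.1 (hmin _ ⟨i, rfl⟩))
  have hb : ∀ j, J ≤ j → Function.Bijective (hk k (dn e F φ j) 1) := fun j hj =>
    ⟨hj₁ j (by omega), (LinearMap.injective_iff_surjective_of_finrank_eq_finrank
      ((hconst (j + 1) (by omega)).trans (hconst j hj).symm)).1 (hj₁ j (by omega))⟩
  let B : ∀ j, Module.End k (Coh.HH X (tw F R j) 1) := fun j =>
    if hj : J ≤ j then hk k (dn e F ψ j) 1 ∘ₗ (LinearEquiv.ofBijective _ (hb j hj)).symm.toLinearMap else 0
  have hB : ∀ j, J ≤ j → B j ∘ₗ hk k (dn e F φ j) 1 = hk k (dn e F ψ j) 1 := fun j hj => by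
    refine LinearMap.ext fun y => ?_
    simp only [B, dif_pos hj, LinearMap.comp_apply]
    exact congrArg _ ((LinearEquiv.ofBijective _ (hb j hj)).symm_apply_apply y)
  have hstep : ∀ j, J ≤ j → ∀ y, B j (hk k (dn e F φ j) 1 y) = hk k (dn e F φ j) 1 (B (j + 1) y) := by
    intro j hj y
    obtain ⟨z, rfl⟩ := (hb (j + 1) (by omega)).2 y
    rw [show B (j + 1) (hk k (dn e F φ (j + 1)) 1 z) = hk k (dn e F ψ (j + 1)) 1 z from
        LinearMap.congr_fun (hB (j + 1) (by omega)) z,
      show B j (hk k (dn e F φ j) 1 (hk k (dn e F φ (j + 1)) 1 z)) =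
        hk k (dn e F ψ j) 1 (hk k (dn e F φ (j + 1)) 1 z) from LinearMap.congr_fun (hB j hj) _]
    show Groth.L16.CohLinear.hmap (dn e F ψ j) 1 (Groth.L16.CohLinear.hmap (dn e F φ (j + 1)) 1 z) =
      Groth.L16.CohLinear.hmap (dn e F φ j) 1 (Groth.L16.CohLinear.hmap (dn e F ψ (j + 1)) 1 z)
    rw [← Groth.L16.CohLinear.hmap_comp, ← Groth.L16.CohLinear.hmap_comp, dn_comm e hQ F φ ψ]
  have hN0 : ∀ (j : ℕ) y, hk k (dnN e F φ j 0) 1 y = y := fun j y => Groth.L16.CohLinear.hmap_id 1 y
  have hNs : ∀ (j d : ℕ) y, hk k (dnN e F φ j (d + 1)) 1 y =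
      hk k (dnN e F φ j d) 1 (hk k (dn e F φ (j + d)) 1 y) := fun j d y =>
    Groth.L16.CohLinear.hmap_comp _ _ 1 y
  have hBN : ∀ j d, J ≤ j → B j ∘ₗ hk k (dnN e F φ j d) 1 = hk k (dnN e F φ j d) 1 ∘ₗ B (j + d) := by
    intro j d hj
    induction d with
    | zero => exact LinearMap.ext fun y => (congrArg (B j) (hN0 j y)).trans (hN0 j (B j y)).symm
    | succ d ih =>
      refine LinearMap.ext fun y => ?_
      simp only [LinearMap.comp_apply] at ih ⊢
      rw [hNs, hNs]
      refine (LinearMap.congr_fun ih _).trans ?_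
      simp only [LinearMap.comp_apply]
      rw [hstep (j + d) (by omega)]
      rfl
  have hNb : ∀ j d, J ≤ j → Function.Bijective (hk k (dnN e F φ j d) 1) := by
    intro j d hj
    induction d with
    | zero =>
      have : ⇑(hk k (dnN e F φ j 0) 1) = id := funext (hN0 j)
      rw [this]; exact Function.bijective_id
    | succ d ih =>
      have : ⇑(hk k (dnN e F φ j (d + 1)) 1) = hk k (dnN e F φ j d) 1 ∘ hk k (dn e F φ (j + d)) 1 :=
        funext (hNs j d)
      rw [this]
      exact ih.comp (hb (j + d) (by omega))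
  obtain ⟨c, hcP⟩ := exists_pol k (p := (B J).charpoly) _ (LinearMap.charpoly_monic _) rfl
  generalize hd : (B J).charpoly.natDegree = d at hcP
  have hp0 : Pol k c d ≠ 0 := hcP ▸ (LinearMap.charpoly_monic _).ne_zero
  have hzero : ∀ j, J ≤ j → hk k (Phi e k F φ ψ c d j) 1 = 0 := by
    intro j hj
    obtain ⟨i, rfl⟩ : ∃ i, j = J + i := ⟨j - J, by omega⟩
    rw [hk_Phi e k F φ ψ 1 J B hB hBN d c (J + i) (Nat.le_add_right _ _), hcP]
    have hint : ∀ (p : Polynomial k) y, hk k (dnN e F φ J i) 1 (Polynomial.aeval (B (J + i)) p y) =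
        Polynomial.aeval (B J) p (hk k (dnN e F φ J i) 1 y) := fun p y => by
      induction p using Polynomial.induction_on generalizing y with
      | C a => simp
      | add p q hp hq => simp [hp, hq]
      | monomial n a hn =>
        simp only [pow_succ, ← mul_assoc, map_mul (Polynomial.aeval (B (J + i))) _ Polynomial.X, map_mul (Polynomial.aeval (B J)) _ Polynomial.X, Polynomial.aeval_X]
        show hk k (dnN e F φ J i) 1 (Polynomial.aeval (B (J + i)) _ (B (J + i) y)) = _
        rw [hn]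
        exact congrArg _ (LinearMap.congr_fun (hBN J i le_rfl) y).symm
    have h0 : Polynomial.aeval (B (J + i)) (B J).charpoly = 0 := by
      refine LinearMap.ext fun y => (hNb J i le_rfl).1 ?_
      rw [hint, LinearMap.aeval_self_charpoly]
      simp
    rw [h0, LinearMap.zero_comp]
  obtain ⟨j₂, hj₂⟩ := eventually_injective_hk k F hR hF hdepth hH0 d (fun j => Phi e k F φ ψ c d j)
    (hmonoPhi d c hp0) (fun j => Phi_succ e k F φ ψ hQ hmono j d c) fun x => by
      obtain ⟨q, a, b, hq, ha, hb'⟩ := hframe x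
      obtain ⟨β, hβ⟩ := st_Phi_eq e k F φ ψ ha hb' d c 0
      exact ⟨β, theta e F q 0 d, bijective_theta e F hq 0 d, hβ⟩
  refine ⟨J + j₂ + d, fun j hj => ?_⟩
  obtain ⟨i, rfl⟩ : ∃ i, j = i + d := ⟨j - d, by omega⟩
  refine subsingleton_of_forall_eq 0 fun y => hj₂ i (by omega) ?_
  rw [hzero i (by omega)]
  rfl

end Groth.L22.EnrSev
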